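import Cfsg.Agent.QTNorm.SporBase
import Cfsg.Agent.Omega.Quasithin.Row.MTwelve

/-!
# The row `M12` of `NT` (S1825, helper26)
-/

set_option autoImplicit false

namespace Cfsg.Agent.QTNorm

open Cfsg Subgroup Equiv

/-- a Sylow 2-subgroup of prime index is self-normalising if the 2-elements generate -/
theorem selfN_of_index {L : Type*} [Group L] [Finite L] (h : ∀ T : Sylow 2 L, (T : Subgroup L).index.Prime)
    (hg : ∀ N : Subgroup L, (∀ x : L, x * x = 1 → x ∈ N) → N = ⊤) : SelfN L := by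
  have : Fact (Nat.Prime 2) := ⟨Nat.prime_two⟩
  intro T
  have hT := h T
  have h1 := relIndex_mul_index (le_normalizer (H := (T : Subgroup L)))
  rcases (Nat.dvd_prime hT).1 (Dvd.intro _ h1) with h2 | h2
  · exact relIndex_eq_one.1 h2
  · exfalso
    rw [h2] at h1
    have h3 : (normalizer ((T : Subgroup L) : Set L)).index = 1 :=
      Nat.eq_of_mul_eq_mul_left hT.pos (by rw [h1, mul_one])
    have h4 : (T : Subgroup L).Normal := normalizer_eq_top_iff.1 (index_eq_one.1 h3)
    have h5 : (T : Subgroup L) = ⊤ := by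
      apply hg
      intro x hx
      have h6 : IsPGroup 2 (zpowers x) := by
        intro ⟨y, hy⟩
        obtain ⟨n, rfl⟩ := mem_zpowers_iff.1 hy
        refine ⟨1, Subtype.ext ?_⟩
        show (x ^ n) ^ 2 ^ 1 = 1
        rw [pow_one, sq, ← zpow_add, ← two_mul, zpow_mul]
        have : x ^ (2 : ℤ) = 1 := by rw [zpow_two, hx]
        rw [this, one_zpow]
      obtain ⟨S, hS⟩ := h6.exists_le_sylow
      have h7 : S = T := by
        have : Unique (Sylow 2 L) := Sylow.unique_of_normal T h4
        exact Subsingleton.elim _ _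
      rw [← h7]
      exact hS (mem_zpowers x)
    rw [h5, index_top] at hT
    exact Nat.not_prime_one hT

theorem selfN_four {X : Type*} [Fintype X] [DecidableEq X] (hX : Fintype.card X = 4) : SelfN (Perm X) := by
  have : Fact (Nat.Prime 2) := ⟨Nat.prime_two⟩
  refine selfN_of_index (fun T => ?_) fun N hN => ?_
  · have h1 : Nat.card (Perm X) = 24 := by
      rw [Nat.card_eq_fintype_card, Fintype.card_perm, hX]; rfl
    have h2 := T.card_eq_multiplicity
    rw [h1] at h2
    have h3 : Nat.factorization 24 2 = 3 := by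
      rw [show (24 : ℕ) = 2 ^ 3 * 3 by norm_num, Nat.factorization_mul (by norm_num) (by norm_num),
        Finsupp.add_apply, Nat.Prime.factorization_pow Nat.prime_two, Finsupp.single_eq_same,
        Nat.factorization_eq_zero_of_not_dvd (by norm_num)]
    rw [h3] at h2
    have h4 := (T : Subgroup (Perm X)).card_mul_index
    rw [h2, h1] at h4
    have h5 : (T : Subgroup (Perm X)).index = 3 := by omega
    rw [h5]; exact Nat.prime_three
  · rw [eq_top_iff, ← Equiv.Perm.closure_isSwap, closure_le]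
    rintro σ ⟨a, b, -, rfl⟩
    exact hN _ (swap_mul_self a b)

open Cfsg.Agent.Omega.Quasithin.M12 Cfsg.Agent.CoThreeStd.M12

theorem psi_surj : Function.Surjective psi := by
  intro σ
  have h0 : (0 : Fin 12) ∈ F := by decide
  have h6 : (6 : Fin 12) ∈ F := by decide
  have h1 : (1 : Fin 12) ∈ F := by decide
  have h2 : (2 : Fin 12) ∈ F := by decide
  have hne : ∀ (i j : Fin 12) (hi : i ∈ F) (hj : j ∈ F), i ≠ j →
      ((σ ⟨i, hi⟩ : X) : Fin 12) ≠ ((σ ⟨j, hj⟩ : X) : Fin 12) := by
    intro i j hi hj hij he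
    exact hij (congrArg Subtype.val (σ.injective (Subtype.ext he)))
  obtain ⟨x, x0, x6, x1, x2⟩ := trans_four (σ ⟨0, h0⟩ : X) (σ ⟨6, h6⟩ : X) (σ ⟨1, h1⟩ : X) (σ ⟨2, h2⟩ : X)
    (hne _ _ _ _ (by decide)) (hne _ _ _ _ (by decide)) (hne _ _ _ _ (by decide)) (hne _ _ _ _ (by decide))
    (hne _ _ _ _ (by decide)) (hne _ _ _ _ (by decide))
  have hx : ∀ i (hi : i ∈ F), (x : P12) i = (σ ⟨i, hi⟩ : X) := by
    intro i hi
    have h : i = 0 ∨ i = 6 ∨ i = 1 ∨ i = 2 := by
      simpa [F] using hi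
    rcases h with rfl | rfl | rfl | rfl
    · exact x0
    · exact x6
    · exact x1
    · exact x2
  have hz : x * z = z * x := comm_z fun i hi => by rw [hx i hi]; exact (σ ⟨i, hi⟩).2
  refine ⟨⟨x, (mem_centralizer_iff' x).2 hz⟩, Equiv.ext fun i => Subtype.ext ?_⟩
  rw [psi_apply]
  exact hx i i.2

theorem selfN_g12 : SelfN G12 := by
  obtain ⟨S, hS⟩ := exists_sylow
  have hQS : Q ≤ (S : Subgroup G12) :=
    Omega.Quasithin.EvenOf.le_sylow_of_normalizes S isPGroup_Q fun s hs x hx =>
      conj_mem_Q s (hS s hs) x hx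
  have hzQ : z ∈ Q := mem_Q_of_fix fun i hi => (fix_iff i).2 hi
  refine SelfN.of_one S (self_of_hom S (centralizer ({z} : Set G12)) (fun x hx => ?_) psi psi_surj
    (fun c hc => ⟨2, ?_⟩) (selfN_four (by decide)))
  · rw [mem_centralizer_iff']
    refine norm_comm (hQS hzQ) zz z_ne hS (fun b hb hbb hb1 hbc => ?_) hx
    have hbz : b * z = z * b := hS b hb
    have hbQ : b ∈ Q := self_Q b hbz fun y hy => (hbc y (hQS hy)).symm
    exact eq_z_of_comm hbQ hbb hb1 fun y hy => hbc y (hQS hy)
  · have h1 : ((c : G12)) ^ 4 = 1 := by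
      refine pow_four fun i hi => ?_
      have h2 := congrArg (fun τ : Perm X => ((τ ⟨i, hi⟩ : X) : Fin 12)) hc
      exact h2
    exact Subtype.ext (by rw [coe_pow]; exact h1)

theorem selfN_m12 {G : Type*} [Group G] (h : Spor.IsoM12 G) : SelfN G := by
  obtain ⟨e⟩ := h
  exact selfN_g12.congr (e.trans equiv).symm

/-- **The row `M12`.** -/
theorem nt_m12 {G : Type*} [Group G] (h : Spor.IsoM12 G) : NT G := (selfN_m12 h).nt

end Cfsg.Agent.QTNorm
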