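import Cfsg.Agent.QTNorm.SelfNorm
import Cfsg.Agent.QTNorm.Base
import Cfsg.Agent.OddHalf.Small.U33

/-!
# Self-normalizing Sylow 2-subgroups: `PSU₃(3)`
-/

set_option autoImplicit false

namespace Cfsg.Agent.QTNorm.UThreeThree

open Matrix Subgroup Cfsg Cfsg.Agent.OddHalf.Small.U33
open Cfsg.Agent.Classification.RTwo.UThreeThree (K9 card_k9 IsGood IsGood.su psuEquiv)
open Cfsg.Agent.QTNorm.SelfNorm

/-- `diag(-i, 1, i)` -/
def dMat : Matrix (Fin 3) (Fin 3) K9 := !![⟨0, 2⟩, 0, 0; 0, 1, 0; 0, 0, ⟨0, 1⟩]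
/-- `diag(i, 1, -i)` -/
def dMat' : Matrix (Fin 3) (Fin 3) K9 := !![⟨0, 1⟩, 0, 0; 0, 1, 0; 0, 0, ⟨0, 2⟩]

theorem isGood_d : IsGood dMat := by decide +kernel
theorem isGood_d' : IsGood dMat' := by decide +kernel

/-- `diag(-i, 1, i)` -/
def dd : SU33 := isGood_d.su

theorem dd_inv : dd⁻¹ = isGood_d'.su := by
  rw [inv_eq_iff_mul_eq_one]
  apply mt_ext
  rw [mt_mul, mt_one]
  show dMat * dMat' = 1
  decide +kernel

theorem dd_pow : dd ^ 4 = 1 := by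
  apply mt_ext
  have e : dd ^ 4 = dd * dd * (dd * dd) := by
    rw [pow_succ, pow_succ, pow_two, mul_assoc]
  rw [e, mt_mul, mt_mul, mt_one]
  show dMat * dMat * (dMat * dMat) = 1
  decide +kernel

theorem dd_comm : dd * t0 = t0 * dd := by
  apply mt_ext
  rw [mt_mul, mt_mul]
  show dMat * dg = dg * dMat
  decide +kernel

/-- `SU₂(3)` -/
def KK : Subgroup SU33 where
  carrier := {x | x * t0 = t0 * x ∧ mt x 0 0 = 1}
  mul_mem' := by
    rintro x y ⟨hx, hx0⟩ ⟨hy, hy0⟩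
    refine ⟨by rw [mul_assoc, hy, ← mul_assoc, hx, mul_assoc], ?_⟩
    obtain ⟨h01, h02, -, -⟩ := pattern hx
    rw [mt_mul, Matrix.mul_apply, Fin.sum_univ_three, h01, h02, hx0, hy0]
    ring
  one_mem' := ⟨by rw [one_mul, mul_one], by rw [mt_one]; rfl⟩
  inv_mem' := by
    rintro x ⟨hx, hx0⟩
    have hx' : x⁻¹ * t0 = t0 * x⁻¹ := by
      calc x⁻¹ * t0 = x⁻¹ * (t0 * x) * x⁻¹ := by group
        _ = x⁻¹ * (x * t0) * x⁻¹ := by rw [hx]
        _ = t0 * x⁻¹ := by group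
    refine ⟨hx', ?_⟩
    obtain ⟨h01, h02, -, -⟩ := pattern hx
    have h1 : mt (x * x⁻¹) 0 0 = 1 := by rw [mul_inv_cancel, mt_one]; rfl
    rw [mt_mul, Matrix.mul_apply, Fin.sum_univ_three, h01, h02, hx0] at h1
    linear_combination h1

/-- the elements of `SU₂(3)` -/
theorem exists_bm {x : SU33} (hx : x ∈ KK) :
    ∃ a b : K9, a * (a * a * a) + b * (b * b * b) = 1 ∧ mt x = bm a b 1 := by
  obtain ⟨hc, h00⟩ := hx
  obtain ⟨h01, h02, h10, h20⟩ := pattern hc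
  have hdet := det_eq x
  rw [Matrix.det_fin_three, h01, h02, h10, h20, h00] at hdet
  have u11 := unitary x 1 1
  have u22 := unitary x 2 2
  have u12 := unitary x 1 2
  have u21 := unitary x 2 1
  rw [h01] at u11 u12 u21
  rw [h02] at u22 u12 u21
  simp only [mul_zero, zero_add, if_true, if_false, Fin.isValue, Fin.reduceEq] at u11 u22 u12 u21
  set a := mt x 1 1
  set b := mt x 1 2
  set c := mt x 2 1
  set d := mt x 2 2
  have hd' : a * d - b * c = 1 := by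
    linear_combination hdet
  have hd : d = a * a * a := by
    linear_combination (-d) * u11 + (a * a * a) * hd' + c * u21
  have hc : c = -(b * b * b) := by
    linear_combination (-c) * u22 - (b * b * b) * hd' + d * u12
  have h9 := cube_cube a
  refine ⟨a, b, ?_, ?_⟩
  · have h1 : d * (d * d * d) = a * (a * a * a) := by
      rw [hd]
      linear_combination (a * a * a) * h9
    linear_combination u22 - h1
  · refine Matrix.ext fun i j => ?_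
    fin_cases i <;> fin_cases j
    · exact h00
    · exact h01
    · exact h02
    · exact h10
    · rfl
    · rfl
    · exact h20
    · show c = -1 * (b * b * b)
      rw [hc]; ring
    · show d = 1 * (a * a * a)
      rw [hd]; ring

theorem twelve_aux : ∀ a1 a2 b1 b2 : ZMod 3,
    (⟨a1, a2⟩ : K9) * (⟨a1, a2⟩ * ⟨a1, a2⟩ * ⟨a1, a2⟩) + ⟨b1, b2⟩ * (⟨b1, b2⟩ * ⟨b1, b2⟩ * ⟨b1, b2⟩) = 1 →
    (bm ⟨a1, a2⟩ ⟨b1, b2⟩ 1 * bm ⟨a1, a2⟩ ⟨b1, b2⟩ 1 * (bm ⟨a1, a2⟩ ⟨b1, b2⟩ 1 * bm ⟨a1, a2⟩ ⟨b1, b2⟩ 1)) *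
    (bm ⟨a1, a2⟩ ⟨b1, b2⟩ 1 * bm ⟨a1, a2⟩ ⟨b1, b2⟩ 1 * (bm ⟨a1, a2⟩ ⟨b1, b2⟩ 1 * bm ⟨a1, a2⟩ ⟨b1, b2⟩ 1)) *
    (bm ⟨a1, a2⟩ ⟨b1, b2⟩ 1 * bm ⟨a1, a2⟩ ⟨b1, b2⟩ 1 * (bm ⟨a1, a2⟩ ⟨b1, b2⟩ 1 * bm ⟨a1, a2⟩ ⟨b1, b2⟩ 1)) =
      1 := by
  decide +kernel

theorem four_aux : ∀ a1 a2 b1 b2 : ZMod 3,
    (⟨a1, a2⟩ : K9) * (⟨a1, a2⟩ * ⟨a1, a2⟩ * ⟨a1, a2⟩) + ⟨b1, b2⟩ * (⟨b1, b2⟩ * ⟨b1, b2⟩ * ⟨b1, b2⟩) = 1 →
    (bm ⟨a1, a2⟩ ⟨b1, b2⟩ 1 * bm ⟨a1, a2⟩ ⟨b1, b2⟩ 1 * (bm ⟨a1, a2⟩ ⟨b1, b2⟩ 1 * bm ⟨a1, a2⟩ ⟨b1, b2⟩ 1)) =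
      1 → Cond ⟨a1, a2⟩ ⟨b1, b2⟩ (sg true) := by
  decide +kernel

theorem mt_pow_four (x : SU33) : mt (x ^ 4) = mt x * mt x * (mt x * mt x) := by
  have e : x ^ 4 = x * x * (x * x) := by
    rw [pow_succ, pow_succ, pow_two, mul_assoc]
  rw [e]; rfl

theorem mem_Q_of_two {x : SU33} (hx : x ∈ KK) (h : ∃ n : ℕ, x ^ 2 ^ n = 1) : x ∈ Q := by
  obtain ⟨⟨a1, a2⟩, ⟨b1, b2⟩, hab, hm⟩ := exists_bm hx
  have h12 : x ^ 12 = 1 := by
    have e : x ^ 12 = x ^ 4 * x ^ 4 * x ^ 4 := by rw [← pow_add, ← pow_add]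
    apply mt_ext
    rw [e, mt_mul, mt_mul, mt_pow_four, hm, mt_one]
    exact twelve_aux _ _ _ _ hab
  obtain ⟨n, hn⟩ := h
  have h3 : orderOf x ∣ 12 := orderOf_dvd_of_pow_eq_one h12
  have h4 : orderOf x ∣ 2 ^ n := orderOf_dvd_of_pow_eq_one hn
  have h5 : orderOf x ∣ 4 := by
    have h6 : Nat.Coprime (orderOf x) 3 := by
      refine Nat.Coprime.coprime_dvd_left h4 (Nat.Coprime.pow_left n (by norm_num))
    exact h6.dvd_of_dvd_mul_right (by simpa using h3)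
  have h6 : x ^ 4 = 1 := orderOf_dvd_iff_pow_eq_one.1 h5
  refine ⟨⟨a1, a2⟩, ⟨b1, b2⟩, true, ?_, ?_⟩
  · apply four_aux _ _ _ _ hab
    rw [← hm, ← mt_pow_four, h6, mt_one]
  · exact hm

theorem unit_aux : ∀ a1 a2 : ZMod 3, (⟨a1, a2⟩ : K9) * (⟨a1, a2⟩ * ⟨a1, a2⟩ * ⟨a1, a2⟩) = 1 →
    (⟨a1, a2⟩ : K9) ^ 4 = 1 := by decide +kernel

theorem mt_zero_zero_pow {x : SU33} (hx : x * t0 = t0 * x) (n : ℕ) :
    mt (x ^ n) 0 0 = mt x 0 0 ^ n := by
  obtain ⟨h01, h02, -, -⟩ := pattern hx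
  induction n with
  | zero => rw [pow_zero, pow_zero, mt_one]; rfl
  | succ n ih =>
    rw [pow_succ', mt_mul, Matrix.mul_apply, Fin.sum_univ_three, h01, h02, ih, pow_succ']
    ring

theorem mem_KK_of_odd {x : SU33} (hx : x * t0 = t0 * x) (ho : Odd (orderOf x)) : x ∈ KK := by
  refine ⟨hx, ?_⟩
  obtain ⟨h01, h02, h10, h20⟩ := pattern hx
  have u0 := unitary x 0 0
  rw [h10, h20] at u0
  simp only [if_true, mul_zero, add_zero] at u0
  have h4 : (mt x 0 0) ^ 4 = 1 := by linear_combination u0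
  have h5 : (mt x 0 0) ^ orderOf x = 1 := by
    rw [← mt_zero_zero_pow hx, pow_orderOf_eq_one, mt_one]; rfl
  have h6 : orderOf (mt x 0 0) ∣ 4 := orderOf_dvd_of_pow_eq_one h4
  have h7 : orderOf (mt x 0 0) ∣ orderOf x := orderOf_dvd_of_pow_eq_one h5
  have h8 : Nat.Coprime (orderOf x) 4 := by
    have := (Nat.coprime_two_right.mpr ho).pow_right 2
    simpa using this
  exact orderOf_eq_one_iff.1 (Nat.dvd_one.1 (h8 ▸ Nat.dvd_gcd h7 h6))

theorem conj_aux : ∀ a1 a2 b1 b2 : ZMod 3,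
    (⟨a1, a2⟩ : K9) * (⟨a1, a2⟩ * ⟨a1, a2⟩ * ⟨a1, a2⟩) + ⟨b1, b2⟩ * (⟨b1, b2⟩ * ⟨b1, b2⟩ * ⟨b1, b2⟩) = 1 →
    (dMat * bm ⟨a1, a2⟩ ⟨b1, b2⟩ 1 * dMat' * bm ⟨a1, a2⟩ ⟨b1, b2⟩ 1) 0 0 = 1 ∧
    ((dMat * bm ⟨a1, a2⟩ ⟨b1, b2⟩ 1 * dMat' * bm ⟨a1, a2⟩ ⟨b1, b2⟩ 1) 1 1 +
      (dMat * bm ⟨a1, a2⟩ ⟨b1, b2⟩ 1 * dMat' * bm ⟨a1, a2⟩ ⟨b1, b2⟩ 1) 2 2 = 0 ∨
    ((dMat * bm ⟨a1, a2⟩ ⟨b1, b2⟩ 1 * dMat' * bm ⟨a1, a2⟩ ⟨b1, b2⟩ 1) 1 2 = 0 ∧
      (dMat * bm ⟨a1, a2⟩ ⟨b1, b2⟩ 1 * dMat' * bm ⟨a1, a2⟩ ⟨b1, b2⟩ 1) 2 1 = 0 ∧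
      (dMat * bm ⟨a1, a2⟩ ⟨b1, b2⟩ 1 * dMat' * bm ⟨a1, a2⟩ ⟨b1, b2⟩ 1) 1 1 =
      (dMat * bm ⟨a1, a2⟩ ⟨b1, b2⟩ 1 * dMat' * bm ⟨a1, a2⟩ ⟨b1, b2⟩ 1) 2 2)) := by
  decide +kernel

theorem conj_mul {k : SU33} (hk : k ∈ KK) : dd * k * dd⁻¹ * k ∈ Q := by
  obtain ⟨⟨a1, a2⟩, ⟨b1, b2⟩, hab, hm⟩ := exists_bm hk
  have hc : dd * k * dd⁻¹ * k * t0 = t0 * (dd * k * dd⁻¹ * k) := by
    have h1 : dd⁻¹ * t0 = t0 * dd⁻¹ := by
      calc dd⁻¹ * t0 = dd⁻¹ * (t0 * dd) * dd⁻¹ := by group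
        _ = dd⁻¹ * (dd * t0) * dd⁻¹ := by rw [dd_comm]
        _ = t0 * dd⁻¹ := by group
    have h2 := hk.1
    calc dd * k * dd⁻¹ * k * t0 = dd * k * dd⁻¹ * (k * t0) := by simp only [mul_assoc]
      _ = dd * k * (dd⁻¹ * t0) * k := by rw [h2]; simp only [mul_assoc]
      _ = dd * (k * t0) * dd⁻¹ * k := by rw [h1]; simp only [mul_assoc]
      _ = dd * t0 * k * dd⁻¹ * k := by rw [h2]; simp only [mul_assoc]
      _ = t0 * (dd * k * dd⁻¹ * k) := by rw [dd_comm]; simp only [mul_assoc]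
  obtain ⟨y01, y02, y10, y20⟩ := pattern hc
  have e : mt (dd * k * dd⁻¹ * k) = dMat * bm ⟨a1, a2⟩ ⟨b1, b2⟩ 1 * dMat' * bm ⟨a1, a2⟩ ⟨b1, b2⟩ 1 := by
    rw [mt_mul, mt_mul, mt_mul, dd_inv, hm]; rfl
  obtain ⟨h1, h2⟩ := conj_aux a1 a2 b1 b2 hab
  rw [← e] at h1 h2
  exact inQ_of y01 y02 y10 y20 true h1 h2

theorem conj_KK {k : SU33} (hk : k ∈ KK) : dd * k * dd⁻¹ ∈ KK := by
  have h1 : dd⁻¹ * t0 = t0 * dd⁻¹ := by
    calc dd⁻¹ * t0 = dd⁻¹ * (t0 * dd) * dd⁻¹ := by group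
      _ = dd⁻¹ * (dd * t0) * dd⁻¹ := by rw [dd_comm]
      _ = t0 * dd⁻¹ := by group
  refine ⟨?_, ?_⟩
  · have h2 := hk.1
    calc dd * k * dd⁻¹ * t0 = dd * k * (dd⁻¹ * t0) := by simp only [mul_assoc]
      _ = dd * (k * t0) * dd⁻¹ := by rw [h1]; simp only [mul_assoc]
      _ = dd * t0 * k * dd⁻¹ := by rw [h2]; simp only [mul_assoc]
      _ = t0 * (dd * k * dd⁻¹) := by rw [dd_comm]; simp only [mul_assoc]
  · obtain ⟨h01, h02, h10, h20⟩ := pattern hk.1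
    obtain ⟨d01, d02, d10, d20⟩ := pattern dd_comm
    have h3 : mt dd 0 0 * mt dd⁻¹ 0 0 = 1 := by
      have h4 : mt (dd * dd⁻¹) 0 0 = 1 := by rw [mul_inv_cancel, mt_one]; rfl
      rw [mt_mul, Matrix.mul_apply, Fin.sum_univ_three, d01, d02] at h4
      linear_combination h4
    rw [mt_mul, mt_mul, Matrix.mul_apply, Fin.sum_univ_three, Matrix.mul_apply, Matrix.mul_apply,
      Matrix.mul_apply, Fin.sum_univ_three, Fin.sum_univ_three, Fin.sum_univ_three, d01, d02, h01, h02, hk.2]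
    linear_combination h3

theorem unique {w : SU33} (hw : orderOf w = 2) (hi : isGood_i.su * w = w * isGood_i.su)
    (hj : isGood_j.su * w = w * isGood_j.su) : w = t0 := by
  have hwt : w * t0 = t0 * w := by
    have e : t0 = isGood_i.su * isGood_i.su := by
      apply mt_ext
      rw [mt_mul]
      show dg = iMat * iMat
      decide +kernel
    rw [e, ← mul_assoc, ← hi, mul_assoc, ← hi, mul_assoc]
  obtain ⟨y01, y02, y10, y20⟩ := pattern hwt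
  have hi : mt w * iMat = iMat * mt w := congrArg OddHalf.Small.U33.mt hi.symm
  have hj : mt w * jMat = jMat * mt w := congrArg OddHalf.Small.U33.mt hj.symm
  have y12 : mt w 1 2 = 0 := by
    have h := congrFun (congrFun hj 1) 2
    simp only [Matrix.mul_apply, Fin.sum_univ_three] at h
    simp [jMat] at h
    have h2 : ((⟨0, 1⟩ : K9) - ⟨0, 2⟩) * mt w 1 2 = 0 := by linear_combination -h
    exact (mul_eq_zero.1 h2).resolve_left jj_ne
  have y21 : mt w 2 1 = 0 := by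
    have h := congrFun (congrFun hj 2) 1
    simp only [Matrix.mul_apply, Fin.sum_univ_three] at h
    simp [jMat] at h
    have h2 : ((⟨0, 1⟩ : K9) - ⟨0, 2⟩) * mt w 2 1 = 0 := by linear_combination h
    exact (mul_eq_zero.1 h2).resolve_left jj_ne
  have y11 : mt w 1 1 = mt w 2 2 := by
    have h := congrFun (congrFun hi 1) 2
    simp only [Matrix.mul_apply, Fin.sum_univ_three] at h
    simpa [iMat] using h
  have hww : w * w = 1 := by rw [← pow_two, ← hw]; exact pow_orderOf_eq_one w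
  have hsq : ∀ i, mt w i i * mt w i i = 1 := by
    intro i
    have h : mt (w * w) i i = (1 : Matrix (Fin 3) (Fin 3) K9) i i := by rw [hww, mt_one]
    rw [mt_mul, Matrix.mul_apply, Fin.sum_univ_three, Matrix.one_apply_eq] at h
    fin_cases i
    · simp only [Fin.zero_eta, Fin.isValue] at h ⊢
      rw [y01, y02] at h
      linear_combination h
    · simp only [Fin.mk_one, Fin.isValue] at h ⊢
      rw [y10, y12] at h
      linear_combination h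
    · simp only [Fin.reduceFinMk, Fin.isValue] at h ⊢
      rw [y20, y21] at h
      linear_combination h
  have hdet := det_eq w
  rw [Matrix.det_fin_three, y01, y02, y10, y20, y12, y21, ← y11] at hdet
  have y00 : mt w 0 0 = 1 := by
    have h1 := hsq 1
    linear_combination hdet - (mt w 0 0) * h1
  have h11 : mt w 1 1 = 1 ∨ mt w 1 1 = -1 := by
    have h5 : (mt w 1 1 - 1) * (mt w 1 1 + 1) = 0 := by linear_combination hsq 1
    rcases mul_eq_zero.1 h5 with h6 | h6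
    · left; linear_combination h6
    · right; linear_combination h6
  rcases h11 with h11 | h11
  · exfalso
    have h1 : w = 1 := by
      apply mt_ext
      rw [mt_one]
      refine Matrix.ext fun i j => ?_
      fin_cases i <;> fin_cases j
      · exact y00
      · exact y01
      · exact y02
      · exact y10
      · exact h11
      · exact y12
      · exact y20
      · exact y21
      · exact y11.symm.trans h11
    rw [h1, orderOf_one] at hw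
    exact absurd hw (by norm_num)
  · apply mt_ext
    rw [mt_t0]
    refine Matrix.ext fun i j => ?_
    fin_cases i <;> fin_cases j
    · exact y00
    · exact y01
    · exact y02
    · exact y10
    · exact h11
    · exact y12
    · exact y20
    · exact y21
    · exact y11.symm.trans h11

theorem sn_SU : SN SU33 := by
  have := finite_SU33
  have hd2 : IsPGroup 2 (zpowers dd) := by
    intro ⟨y, hy⟩
    obtain ⟨i, rfl⟩ := mem_zpowers_iff.1 hy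
    refine ⟨2, Subtype.ext ?_⟩
    show (dd ^ i) ^ 2 ^ 2 = 1
    rw [← zpow_natCast, ← _root_.zpow_mul, mul_comm, _root_.zpow_mul, zpow_natCast]
    show (dd ^ 4) ^ i = 1
    rw [dd_pow, _root_.one_zpow]
  have hnorm : zpowers dd ≤ normalizer (Q : Set SU33) := by
    rw [zpowers_le, mem_normalizer_iff]
    intro x
    constructor
    · exact fun hx => conj_mem dd_comm hx
    · intro hx
      have h1 : dd⁻¹ * t0 = t0 * dd⁻¹ := by
        calc dd⁻¹ * t0 = dd⁻¹ * (t0 * dd) * dd⁻¹ := by group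
          _ = dd⁻¹ * (dd * t0) * dd⁻¹ := by rw [dd_comm]
          _ = t0 * dd⁻¹ := by group
      have h2 : InQ (dd⁻¹ * (dd * x * dd⁻¹) * dd⁻¹⁻¹) := conj_mem h1 hx
      have e : dd⁻¹ * (dd * x * dd⁻¹) * dd⁻¹⁻¹ = x := by group
      rw [e] at h2
      exact h2
  have hR : IsPGroup 2 (Q ⊔ zpowers dd : Subgroup SU33) := by
    rw [sup_comm]
    exact hd2.to_sup_of_normal_right' isPGroup_Q hnorm
  refine criterion (z := t0) (d := dd) (S0 := {isGood_i.su, isGood_j.su}) (R := Q ⊔ zpowers dd)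
    (K := KK) (Q := Q) hR ?_ orderOf_t0 ?_ ?_ ?_ isPGroup_Q ?_ ?_ ?_
  · rintro _ (rfl | rfl)
    · exact mem_sup_left i_mem
    · exact mem_sup_left j_mem
  · intro w hw hs
    exact unique hw (hs _ (Or.inl rfl)) (hs _ (Or.inr rfl))
  · exact fun x hx ho => mem_KK_of_odd hx ho
  · exact fun x hx h => mem_Q_of_two hx h
  · exact mem_sup_right (mem_zpowers _)
  · exact fun k hk => conj_mul hk
  · exact fun k hk => conj_KK hk

/-- **`PSU₃(3)`.** -/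
theorem sn (F : Type*) [Field F] [Fintype F] (hF : Fintype.card F = 9) : SN (Cfsg.PSU 3 F 3) := by
  have hcard : Fintype.card F = Fintype.card K9 := by rw [hF, card_k9]
  let e : F ≃+* K9 := FiniteField.ringEquivOfCardEq hcard
  exact sn_SU.congr
    ((psuEquiv hF).trans (Cfsg.Agent.LieClassical.FieldTransfer.suCongr 3 3 e)).symm

/-- the row `U₃(3)` -/
theorem NT_u33 {G : Type*} [Group G] {F : Type*} [Field F] [Fintype F] (hF : Fintype.card F = 9)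
    (e : G ≃* Cfsg.PSU 3 F 3) : NT G :=
  NT.of_self ((sn F hF).congr e.symm)

end Cfsg.Agent.QTNorm.UThreeThree
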