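import Cfsg.Agent.QTNorm.Base
import Cfsg.Agent.Lib.LocalCore
import Cfsg.Agent.KFacts.RgdLieCharP
import Cfsg.Agent.ThreePrime.SzDataExists
import Cfsg.Agent.S0308
import Cfsg.Agent.S0311
import Cfsg.Agent.Schreier.TwFFour
import Cfsg.Agent.Lib.SylowNormalInf
import Cfsg.Agent.S1074
import Cfsg.Prelude.Def_Quasithin
import Mathlib.GroupTheory.SpecificGroups.Alternating
import Cfsg.Agent.QTNorm.SelfNorm
import Cfsg.Agent.OddHalf.Small.L2
import Cfsg.Agent.S0254
import Cfsg.Agent.QTNorm.SporM12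
import Cfsg.Agent.QTNorm.LThreeThree
import Cfsg.Agent.QTNorm.UThreeThree
import Cfsg.Agent.QTNorm.LFourThree
import Cfsg.Agent.QTNorm.UFourThree
import Cfsg.Agent.QTNorm.GTwoThree
import Cfsg.Agent.QTNorm.SporRigid
import Cfsg.Agent.QTNorm.SporJ4
import Cfsg.Agent.QTNorm.SporRu
import Cfsg.Agent.QTNorm.SporHS
import Cfsg.Agent.QTNorm.SporJ2
import Cfsg.Agent.QTNorm.SporJ3

-- merged: Cfsg.Agent.QTNorm.Gen
section

/-!
# Criteria for `NT G`

* `NT.of_sylow` : one Sylow 2-subgroup is enough;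
* `NT.of_gen` : it is enough that `N(T)` normalises `⟨T, T^g⟩` for all `g`;
* `NT.of_ti` : TI Sylow 2-subgroups;
* `NT.of_bn` : split `(B,N)`-pairs with `U` a Sylow 2-subgroup.
-/

set_option autoImplicit false

namespace Cfsg.Agent.QTNorm

open Cfsg

universe u v

variable {G : Type u} [Group G]

theorem mem_normalizer_iff_map {A : Subgroup G} {x : G} :
    x ∈ Subgroup.normalizer (A : Set G) ↔ A.map (MulAut.conj x).toMonoidHom = A := by
  constructor
  · intro h
    apply le_antisymm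
    · rintro _ ⟨a, ha, rfl⟩
      exact (Subgroup.mem_normalizer_iff.1 h a).1 ha
    · intro a ha
      refine ⟨x⁻¹ * a * x, ?_, ?_⟩
      · have := (Subgroup.mem_normalizer_iff.1 (inv_mem h) a).1 ha
        rwa [inv_inv] at this
      · show x * (x⁻¹ * a * x) * x⁻¹ = a
        group
  · intro h
    rw [Subgroup.mem_normalizer_iff]
    intro a
    constructor
    · intro ha
      rw [← h]
      exact ⟨a, ha, rfl⟩
    · intro ha
      rw [← h] at ha
      obtain ⟨b, hb, e⟩ := ha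
      have : b = a := by
        have e' : x * b * x⁻¹ = x * a * x⁻¹ := e
        exact mul_left_cancel (mul_right_cancel e')
      rwa [← this]

theorem le_normalizer_iSup {ι : Sort*} (A : ι → Subgroup G) {H : Subgroup G}
    (h : ∀ i, H ≤ Subgroup.normalizer (A i : Set G)) : H ≤ Subgroup.normalizer ((⨆ i, A i : Subgroup G) : Set G) := by
  intro x hx
  rw [mem_normalizer_iff_map, Subgroup.map_iSup]
  congr 1
  funext i
  exact mem_normalizer_iff_map.1 (h i hx)

theorem le_normalizer_sup {A B H : Subgroup G} (hA : H ≤ Subgroup.normalizer (A : Set G))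
    (hB : H ≤ Subgroup.normalizer (B : Set G)) : H ≤ Subgroup.normalizer ((A ⊔ B : Subgroup G) : Set G) := by
  intro x hx
  rw [mem_normalizer_iff_map, Subgroup.map_sup, mem_normalizer_iff_map.1 (hA hx), mem_normalizer_iff_map.1 (hB hx)]

theorem map_conj_map (g h : G) (A : Subgroup G) :
    (A.map (MulAut.conj h).toMonoidHom).map (MulAut.conj g).toMonoidHom = A.map (MulAut.conj (g * h)).toMonoidHom := by
  rw [Subgroup.map_map]
  congr 1
  ext x
  simp

theorem map_conj_one (A : Subgroup G) : A.map (MulAut.conj (1 : G)).toMonoidHom = A := by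
  have : (MulAut.conj (1 : G)).toMonoidHom = MonoidHom.id G := by ext x; simp
  rw [this, Subgroup.map_id]

/-- one Sylow 2-subgroup is enough -/
theorem NT.of_sylow [Finite G] (T₀ : Sylow 2 G) (h : ∀ M : Subgroup G, IsMaximalTwoLocal M → (T₀ : Subgroup G) ≤ M →
    Subgroup.normalizer ((T₀ : Subgroup G) : Set G) ≤ M) : NT G := by
  have : Fact (Nat.Prime 2) := ⟨Nat.prime_two⟩
  intro T M hM hT
  obtain ⟨g, rfl⟩ := MulAction.exists_smul_eq G T₀ T
  have h1 : ((g • T₀ : Sylow 2 G) : Subgroup G) = (T₀ : Subgroup G).map (MulAut.conj g).toMonoidHom := by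
    rw [Sylow.coe_subgroup_smul]; rfl
  rw [h1] at hT ⊢
  have h2 := h (M.map (MulAut.conj g⁻¹).toMonoidHom) (isMaximalTwoLocal_map (MulAut.conj g⁻¹) hM) (by
    have := Subgroup.map_mono (f := (MulAut.conj g⁻¹).toMonoidHom) hT
    rwa [map_conj_map, inv_mul_cancel, map_conj_one] at this)
  rw [← normalizer_map (MulAut.conj g)]
  have h3 := Subgroup.map_mono (f := (MulAut.conj g).toMonoidHom) h2
  rwa [map_conj_map, mul_inv_cancel, map_conj_one] at h3

/-- two Sylow 2-subgroups of `G` in the subgroup `P` are conjugate under `P` -/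
theorem sylow_conj_in [Finite G] {P : Subgroup G} (S S' : Sylow 2 G) (hS : (S : Subgroup G) ≤ P)
    (hS' : (S' : Subgroup G) ≤ P) :
    ∃ x ∈ P, (S' : Subgroup G).map (MulAut.conj x).toMonoidHom = (S : Subgroup G) := by
  have : Fact (Nat.Prime 2) := ⟨Nat.prime_two⟩
  obtain ⟨x, hx⟩ := MulAction.exists_smul_eq P (S'.subtype hS') (S.subtype hS)
  rw [Sylow.smul_subtype] at hx
  have h1 := Sylow.subtype_injective hx
  refine ⟨x, x.2, ?_⟩
  rw [← h1]
  show _ = (((x : G) • S' : Sylow 2 G) : Subgroup G)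
  rw [Sylow.coe_subgroup_smul]
  rfl

/-- the 2-core of `L`, as a subgroup of `G`, is normalised by `N(L)` -/
theorem normalizer_le_core [Finite G] (L : Subgroup G) : Subgroup.normalizer (L : Set G) ≤
    Subgroup.normalizer (((pCore 2 L).map L.subtype : Subgroup G) : Set G) := by
  have key : ∀ x ∈ Subgroup.normalizer (L : Set G),
      ((pCore 2 L).map L.subtype).map (MulAut.conj x).toMonoidHom ≤ (pCore 2 L).map L.subtype := by
    intro x hx
    have hL := mem_normalizer_iff_map.1 hx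
    apply Lib.LocalCore.le_map_pCore
    · exact (Subgroup.map_mono (Subgroup.map_subtype_le _)).trans hL.le
    · exact (Lib.LocalCore.isPGroup_map_pCore 2 L).map _
    · have h1 := normalizer_map (MulAut.conj x) ((pCore 2 L).map L.subtype)
      rw [← h1]
      have h2 := Subgroup.map_mono (f := (MulAut.conj x).toMonoidHom) (Lib.LocalCore.le_normalizer_map_pCore 2 L)
      rwa [hL] at h2
  intro x hx
  rw [mem_normalizer_iff_map]
  apply le_antisymm (key x hx)
  have h1 := Subgroup.map_mono (f := (MulAut.conj x).toMonoidHom) (key x⁻¹ (inv_mem hx))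
  rwa [map_conj_map, mul_inv_cancel, map_conj_one] at h1

/-- a maximal 2-local subgroup is the normaliser of a subgroup of each Sylow subgroup it contains -/
theorem exists_le_sylow [Finite G] {M : Subgroup G} (hM : IsTwoLocal M) (T : Sylow 2 G)
    (hT : (T : Subgroup G) ≤ M) : ∃ K : Subgroup G, K ≤ (T : Subgroup G) ∧ K ≠ ⊥ ∧
      M = Subgroup.normalizer (K : Set G) := by
  have : Fact (Nat.Prime 2) := ⟨Nat.prime_two⟩
  obtain ⟨K, hK, h1, rfl⟩ := hM
  refine ⟨K, ?_, h1, rfl⟩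
  have h2 : IsPGroup 2 (K ⊔ (T : Subgroup G) : Subgroup G) := hK.to_sup_of_normal_left' T.2 hT
  have h3 : (K ⊔ (T : Subgroup G) : Subgroup G) = (T : Subgroup G) := T.3 h2 le_sup_right
  rw [← h3]
  exact le_sup_left

/-- `NT G` if `N(T)` normalises `⟨T, T^g⟩` for all `g` -/
theorem NT.of_gen [Finite G] (T : Sylow 2 G) (h : ∀ g : G, Subgroup.normalizer ((T : Subgroup G) : Set G) ≤
    Subgroup.normalizer (((T : Subgroup G) ⊔ (T : Subgroup G).map (MulAut.conj g).toMonoidHom : Subgroup G) : Set G)) :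
    NT G := by
  have : Fact (Nat.Prime 2) := ⟨Nat.prime_two⟩
  refine NT.of_sylow T fun M hM hT => ?_
  obtain ⟨K, hKT, hK1, hMK⟩ := exists_le_sylow hM.1 T hT
  set L : Subgroup G := ⨆ m : M, ((T : Subgroup G) ⊔ (T : Subgroup G).map (MulAut.conj (m : G)).toMonoidHom) with hL
  have hTL : (T : Subgroup G) ≤ L := le_trans le_sup_left
    (le_iSup (fun m : M => ((T : Subgroup G) ⊔ (T : Subgroup G).map (MulAut.conj (m : G)).toMonoidHom)) 1)
  have hLM : L ≤ M := by
    refine iSup_le fun m => sup_le hT ?_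
    rintro _ ⟨t, ht, rfl⟩
    exact mul_mem (mul_mem m.2 (hT ht)) (inv_mem m.2)
  have hTN : Subgroup.normalizer ((T : Subgroup G) : Set G) ≤ Subgroup.normalizer (L : Set G) :=
    le_normalizer_iSup _ fun m => h m
  have hMN : M ≤ Subgroup.normalizer (L : Set G) := by
    have key : ∀ x ∈ M, L.map (MulAut.conj x).toMonoidHom ≤ L := by
      intro x hx
      rw [hL, Subgroup.map_iSup]
      refine iSup_le fun m => ?_
      rw [Subgroup.map_sup, map_conj_map]
      refine sup_le (le_trans ?_ (le_iSup (fun m : M =>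
        ((T : Subgroup G) ⊔ (T : Subgroup G).map (MulAut.conj (m : G)).toMonoidHom)) ⟨x, hx⟩))
        (le_trans ?_ (le_iSup (fun m : M =>
        ((T : Subgroup G) ⊔ (T : Subgroup G).map (MulAut.conj (m : G)).toMonoidHom)) ⟨x * m, mul_mem hx m.2⟩))
      · exact le_sup_right
      · exact le_sup_right
    intro x hx
    rw [mem_normalizer_iff_map]
    apply le_antisymm (key x hx)
    have h1 := Subgroup.map_mono (f := (MulAut.conj x).toMonoidHom) (key x⁻¹ (inv_mem hx))
    rwa [map_conj_map, mul_inv_cancel, map_conj_one] at h1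
  -- the core
  set O : Subgroup G := (pCore 2 L).map L.subtype with hO
  have hKO : K ≤ O := Lib.LocalCore.le_map_pCore (hKT.trans hTL) (T.2.to_le hKT) (by
    rw [← hMK]; exact hLM)
  have hO1 : O ≠ ⊥ := fun h0 => hK1 (eq_bot_iff.2 (h0 ▸ hKO))
  have h1 := hM.2 (Subgroup.normalizer (O : Set G)) ⟨O, Lib.LocalCore.isPGroup_map_pCore 2 L, hO1, rfl⟩
    (hMN.trans (normalizer_le_core L))
  rw [← h1]
  exact hTN.trans (normalizer_le_core L)

/-- TI Sylow 2-subgroups -/
theorem NT.of_ti [Finite G] (T : Sylow 2 G) (h : ∀ g x : G, x ∈ (T : Subgroup G) → x ≠ 1 →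
    g * x * g⁻¹ ∈ (T : Subgroup G) → g ∈ Subgroup.normalizer ((T : Subgroup G) : Set G)) : NT G := by
  refine NT.of_sylow T fun M hM hT => ?_
  obtain ⟨K, hKT, hK1, hMK⟩ := exists_le_sylow hM.1 T hT
  have h1 : M ≤ Subgroup.normalizer ((T : Subgroup G) : Set G) := by
    rw [hMK]
    intro g hg
    obtain ⟨⟨x, hx⟩, hx1⟩ := Subgroup.ne_bot_iff_exists_ne_one.1 hK1
    exact h g x (hKT hx) (fun e => hx1 (Subtype.ext e)) (hKT ((Subgroup.mem_normalizer_iff.1 hg x).1 hx))
  have hT1 : (T : Subgroup G) ≠ ⊥ := fun h0 => hK1 (eq_bot_iff.2 (h0 ▸ hKT))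
  rw [hM.2 _ ⟨_, T.2, hT1, rfl⟩ h1]

end Cfsg.Agent.QTNorm

end

-- merged: Cfsg.Agent.QTNorm.Filt
section

/-!
# `NT G` for the groups of Lie type in characteristic 2

* `NT_of_filt` : groups with root group data and Borel–Tits (all families but `Sz`, `²F₄`);
* `NT_of_sz` : the Suzuki groups (TI Sylow 2-subgroups).
-/

set_option autoImplicit false

namespace Cfsg.Agent.QTNorm

open Cfsg Cfsg.Agent.Nodes.Reps Cfsg.Agent.Nodes.BNOf Cfsg.Agent.Nodes.Bruhat Cfsg.Agent.Nodes.OppDec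
  Cfsg.Agent.Nodes.LeviDec Cfsg.Agent.Nodes.NormX
  Cfsg.Agent.KFacts.RgdPar Cfsg.Agent.KFacts.RgdCent
  Cfsg.Agent.KFacts.RgdEx Cfsg.Agent.KFacts.RgdVJ Cfsg.Agent.KFacts.RgdCharP
  Cfsg.Agent.KFacts.RgdBorelTits Cfsg.Agent.KFacts.RgdFilt CoxeterSystem Cfsg.Agent.Tits.Roots

universe u v

variable {G : Type u} [Group G]

theorem cj_eq (g : G) (A : Subgroup G) : cj g A = A.map (MulAut.conj g).toMonoidHom := rfl

/-- the groups with Borel–Tits -/
theorem NT_of_filt [Finite G] [IsSimpleGroup G] (hG : HasFilt 2 G) (hc : ∃ a b : G, a * b ≠ b * a) : NT G := by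
  have hp : Fact (Nat.Prime 2) := ⟨Nat.prime_two⟩
  obtain ⟨l, M, A, h, T, n, X, R, hW, hBT, hGG, hN, hconn, hX, hl⟩ := hG.data hc
  set U : Subgroup G := RGD.Sup X (RGD.Pos M.toCoxeterSystem h) with hU
  have hUp : IsPGroup 2 U := R.isPGroup_Upos
  -- `U` is a Sylow subgroup
  obtain ⟨S, hS⟩ := hUp.exists_le_sylow
  have hSU : (S : Subgroup G) = U := eq_U R hS (by rw [hGG]; exact le_top) S.2
  have hNU : Subgroup.normalizer (U : Set G) = RGD.B M.toCoxeterSystem h T X := by
    have h1 := normalizer_U R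
    rwa [hGG, inf_top_eq] at h1
  refine NT.of_sylow S fun P hP hT => ?_
  rw [hSU] at hT ⊢
  obtain ⟨K, hK, hK1, rfl⟩ := hP.1
  obtain ⟨g, J, hJ, h1, h2⟩ := hBT K hK hK1
  have hV1 : VJ M.toCoxeterSystem h X J ≠ ⊥ := by
    intro h3
    apply hK1
    rw [eq_bot_iff]
    refine le_trans h1 ?_
    rw [h3]
    exact (Subgroup.map_bot _).le
  have hPJ : PJ M.toCoxeterSystem h T X J = Subgroup.normalizer (VJ M.toCoxeterSystem h X J : Set G) := by
    apply le_antisymm (PJ_le_normalizer_VJ R J)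
    have h3 := normalizer_VJ R J
    rw [hGG, inf_top_eq] at h3
    exact h3.le
  have hloc : IsTwoLocal (cj g (PJ M.toCoxeterSystem h T X J)) := by
    have : IsTwoLocal (PJ M.toCoxeterSystem h T X J) := ⟨_, isPGroup_VJ R J, hV1, hPJ⟩
    exact isTwoLocal_map (MulAut.conj g) this
  have h3 := hP.2 _ hloc h2
  rw [← h3] at hT ⊢
  -- `U` and `gUg⁻¹` are Sylow subgroups of `P`
  have hgU : cj g U ≤ cj g (PJ M.toCoxeterSystem h T X J) := cj_mono g (RGD.U_le_B.trans B_le_PJ)
  have hSg : ((g • S : Sylow 2 G) : Subgroup G) = cj g U := by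
    rw [Sylow.coe_subgroup_smul, hSU]; rfl
  obtain ⟨x, hxP, hx⟩ := sylow_conj_in (P := cj g (PJ M.toCoxeterSystem h T X J)) S (g • S)
    (by rw [hSU]; exact hT) (by rw [hSg]; exact hgU)
  rw [hSg, hSU] at hx
  -- `N(U) = xg B (xg)⁻¹ ≤ x P x⁻¹ = P`
  have h4 : U = cj (x * g) U := by rw [cj_mul]; exact hx.symm
  rw [h4]
  have h5 : Subgroup.normalizer (cj (x * g) U : Set G) = cj (x * g) (Subgroup.normalizer (U : Set G)) :=
    (normalizer_map (MulAut.conj (x * g)) U).symm
  rw [h5, hNU, cj_mul]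
  have h6 : cj x (cj g (PJ M.toCoxeterSystem h T X J)) = cj g (PJ M.toCoxeterSystem h T X J) :=
    cj_eq_of_mem hxP
  rw [← h6]
  exact cj_mono x (cj_mono g B_le_PJ)

/-- the groups of Lie type of characteristic 2 but `Sz`, `²F₄` -/
theorem NT_of_lieFilt [Finite G] [IsSimpleGroup G] (hG : KFacts.RgdLieCharP.IsLieFilt 2 G)
    (hc : ∃ a b : G, a * b ≠ b * a) : NT G :=
  NT_of_filt (KFacts.RgdLieCharP.hasFilt_of_lie hG) hc

/-- the Suzuki groups -/
theorem NT_of_sz [Finite G] (h : Cfsg.Lie.IsoSuzuki G) : NT G := by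
  have : Fact (Nat.Prime 2) := ⟨Nat.prime_two⟩
  obtain ⟨T⟩ : Nonempty (Sylow 2 G) := inferInstance
  obtain ⟨D, hD⟩ := ThreePrime.SzRel.exists_szData h T
  exact NT.of_ti T fun g x hx hx1 hgx => hD.ti g x hx hx1 hgx

end Cfsg.Agent.QTNorm

end

-- merged: Cfsg.Agent.QTNorm.BN
section

/-!
# `NT G` for split `(B,N)`-pairs

`NT.of_bn` : `T` a Sylow 2-subgroup, `T ⊲ B`, `B = T (B ∩ N)`.
-/

set_option autoImplicit false

namespace Cfsg.Agent.QTNorm

open Cfsg

universe u v

variable {G : Type u} [Group G]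

/-- `N(U) ≤ B` in a split `(B,N)`-pair -/
theorem bn_normalizer_le (P : BNPair G) (U : Subgroup G) (hn : P.B ≤ Subgroup.normalizer (U : Set G))
    (hUH : U ⊔ (P.B ⊓ P.N) = P.B) : Subgroup.normalizer (U : Set G) ≤ P.B := by
  obtain ⟨J, hJ, hM⟩ := Cfsg.Agent.S0311.result P (Subgroup.normalizer (U : Set G)) hn
  have hJ0 : J = ∅ := by
    rw [Set.eq_empty_iff_forall_notMem]
    intro s hs
    have hsS := hJ hs
    have hsN : s ∈ P.N := P.subset hsS
    have hsM : s ∈ Subgroup.normalizer (U : Set G) := by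
      rw [hM]
      exact Subgroup.mem_sup_right (Subgroup.subset_closure hs)
    have key : ∀ n ∈ P.N, n ∈ Subgroup.normalizer (U : Set G) → ∀ b ∈ P.B, n * b * n⁻¹ ∈ P.B := by
      intro n hnN hnM
      have h1 : P.B ≤ P.B.comap (MulAut.conj n).toMonoidHom := by
        conv_lhs => rw [← hUH]
        refine sup_le ?_ ?_
        · intro u hu
          have h2 : n * u * n⁻¹ ∈ U := (Subgroup.mem_normalizer_iff.1 hnM u).1 hu
          show n * u * n⁻¹ ∈ P.B
          rw [← hUH]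
          exact Subgroup.mem_sup_left h2
        · intro t ht
          exact P.conj_mem n hnN t ht
      exact fun b hb => h1 hb
    apply P.conj_ne s hsS
    ext y
    constructor
    · rintro ⟨b, hb, rfl⟩
      have h1 : s * b * s = s * b * s⁻¹ * (s * s) := by group
      show s * b * s ∈ P.B
      rw [h1]
      exact mul_mem (key s hsN hsM b hb) (P.sq_mem s hsS)
    · intro hy
      refine ⟨s⁻¹ * y * s⁻¹, ?_, ?_⟩
      · have h1 : s⁻¹ * y * s⁻¹ = s⁻¹ * y * s⁻¹⁻¹ * (s * s)⁻¹ := by group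
        show s⁻¹ * y * s⁻¹ ∈ P.B
        rw [h1]
        exact mul_mem (key s⁻¹ (inv_mem hsN) (inv_mem hsM) y hy) (inv_mem (P.sq_mem s hsS))
      · show s * (s⁻¹ * y * s⁻¹) * s = y
        group
  rw [hM, hJ0]
  unfold BNPair.parabolic
  rw [Subgroup.closure_empty, sup_bot_eq]

/-- `NT G` for a split `(B,N)`-pair with `U = T` a Sylow 2-subgroup -/
theorem NT.of_bn [Finite G] (P : BNPair G) (T : Sylow 2 G) (hn : P.B ≤ Subgroup.normalizer ((T : Subgroup G) : Set G))
    (hTH : (T : Subgroup G) ⊔ (P.B ⊓ P.N) = P.B) : NT G := by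
  apply NT.of_gen T
  intro g
  refine (bn_normalizer_le P (T : Subgroup G) hn hTH).trans ?_
  obtain ⟨n, hnN, hg⟩ := Cfsg.Agent.S0308.result P g
  rw [DoubleCoset.mem_doubleCoset] at hg
  obtain ⟨b₁, hb₁, b₂, hb₂, rfl⟩ := hg
  set A : Subgroup G := (T : Subgroup G).map (MulAut.conj n).toMonoidHom with hA
  have hHA : P.B ⊓ P.N ≤ Subgroup.normalizer (A : Set G) := by
    intro t ht
    have h1 : n⁻¹ * t * n ∈ P.B := by
      have := P.conj_mem n⁻¹ (inv_mem hnN) t ht
      rwa [inv_inv] at this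
    have h2 := mem_normalizer_iff_map.1 (hn h1)
    rw [mem_normalizer_iff_map, hA, map_conj_map]
    conv_rhs => rw [← h2]
    rw [map_conj_map]
    congr 3
    group
  have hB : P.B ≤ Subgroup.normalizer (((T : Subgroup G) ⊔ A : Subgroup G) : Set G) := by
    conv_lhs => rw [← hTH]
    refine sup_le (le_trans le_sup_left Subgroup.le_normalizer) ?_
    exact le_normalizer_sup (le_trans inf_le_left hn) hHA
  have h1 : (T : Subgroup G).map (MulAut.conj (b₁ * n * b₂)).toMonoidHom =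
      A.map (MulAut.conj b₁).toMonoidHom := by
    rw [hA, map_conj_map, ← map_conj_map (b₁ * n) b₂, mem_normalizer_iff_map.1 (hn hb₂)]
  have h2 : (T : Subgroup G) ⊔ A.map (MulAut.conj b₁).toMonoidHom = (T : Subgroup G) ⊔ A := by
    have h3 := mem_normalizer_iff_map.1 (hB hb₁)
    rwa [Subgroup.map_sup, mem_normalizer_iff_map.1 (hn hb₁)] at h3
  rw [h1, h2]
  exact hB

/-- `U` is a Sylow 2-subgroup in a split `(B,N)`-pair with `U` a 2-group and `B ∩ N` of odd exponent -/
theorem exists_sylow_of_bn [Finite G] (P : BNPair G) (U : Subgroup G) (hU : IsPGroup 2 U) (hUB : U ≤ P.B)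
    (hn : P.B ≤ Subgroup.normalizer (U : Set G)) (hdec : ∀ b ∈ P.B, ∃ u ∈ U, u⁻¹ * b ∈ P.N) {k : ℕ} (hk : Odd k)
    (htor : ∀ h ∈ P.B, h ∈ P.N → h ^ k = 1) :
    U ⊔ (P.B ⊓ P.N) = P.B ∧ ∃ S : Sylow 2 G, (S : Subgroup G) = U := by
  have hsup : U ⊔ (P.B ⊓ P.N) = P.B := by
    apply le_antisymm (sup_le hUB inf_le_left)
    intro b hb
    obtain ⟨u, hu, h⟩ := hdec b hb
    have h1 : b = u * (u⁻¹ * b) := by group
    have h2 : u⁻¹ * b ∈ P.B := mul_mem (inv_mem (hUB hu)) hb
    rw [h1]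
    exact mul_mem (Subgroup.mem_sup_left hu) (Subgroup.mem_sup_right (Subgroup.mem_inf.2 ⟨h2, h⟩))
  refine ⟨hsup, ?_⟩
  obtain ⟨S, hS⟩ := hU.exists_le_sylow
  refine ⟨S, ?_⟩
  by_contra hne
  have hlt : U < (S : Subgroup G) := lt_of_le_of_ne hS (fun h => hne h.symm)
  have hfact : Fact (Nat.Prime 2) := ⟨Nat.prime_two⟩
  have hnil : Group.IsNilpotent (S : Subgroup G) := S.2.isNilpotent
  have hnc := (Group.normalizerCondition_of_isNilpotent (G := (S : Subgroup G))) (U.subgroupOf S)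
    (lt_top_iff_ne_top.2 fun h => by
      rw [Subgroup.subgroupOf_eq_top] at h
      exact absurd h (not_le_of_gt hlt))
  obtain ⟨g, hgN, hgU⟩ := SetLike.exists_of_lt hnc
  have hgS : (g : G) ∈ (S : Subgroup G) := g.2
  have hg : (g : G) ∈ Subgroup.normalizer (U : Set G) := by
    rw [Subgroup.mem_normalizer_iff]
    intro x
    constructor
    · intro hx
      exact (Subgroup.mem_normalizer_iff.1 hgN ⟨x, hS hx⟩).1 hx
    · intro hx
      have hxP : x ∈ (S : Subgroup G) := by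
        have h2 := hS hx
        have e : x = (g : G)⁻¹ * ((g : G) * x * (g : G)⁻¹) * g := by group
        rw [e]
        exact mul_mem (mul_mem (inv_mem hgS) h2) hgS
      exact (Subgroup.mem_normalizer_iff.1 hgN ⟨x, hxP⟩).2 hx
  have hgB : (g : G) ∈ P.B := bn_normalizer_le P U hn hsup hg
  obtain ⟨u, hu, h⟩ := hdec g hgB
  have h1 : (u⁻¹ * g) ^ k = 1 := htor _ (mul_mem (inv_mem (hUB hu)) hgB) h
  have h2 : u⁻¹ * g ∈ (S : Subgroup G) := mul_mem (inv_mem (hS hu)) hgS
  obtain ⟨j, hj⟩ := S.2 ⟨_, h2⟩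
  have hj' : (u⁻¹ * g) ^ 2 ^ j = 1 := by
    have := congrArg Subtype.val hj
    simpa using this
  have h3 : u⁻¹ * g = 1 := by
    rw [← orderOf_eq_one_iff]
    have h4 : (Nat.gcd k (2 ^ j)) = 1 := by
      rw [← Nat.coprime_iff_gcd_eq_one]
      exact (Nat.Coprime.pow_right j (Nat.coprime_two_right.2 hk))
    rw [← Nat.dvd_one, ← h4]
    exact Nat.dvd_gcd (orderOf_dvd_of_pow_eq_one h1) (orderOf_dvd_of_pow_eq_one hj')
  apply hgU
  show (g : G) ∈ U
  have h5 : (g : G) = u * (u⁻¹ * g) := by group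
  rw [h5, h3, mul_one]
  exact hu

/-- `NT G` from a split `(B,N)`-pair, `U` a 2-group, `B ∩ N` of odd exponent -/
theorem NT.of_bn' [Finite G] (P : BNPair G) (U : Subgroup G) (hU : IsPGroup 2 U) (hUB : U ≤ P.B)
    (hn : P.B ≤ Subgroup.normalizer (U : Set G)) (hdec : ∀ b ∈ P.B, ∃ u ∈ U, u⁻¹ * b ∈ P.N) {k : ℕ} (hk : Odd k)
    (htor : ∀ h ∈ P.B, h ∈ P.N → h ^ k = 1) : NT G := by
  obtain ⟨hsup, S, hS⟩ := exists_sylow_of_bn P U hU hUB hn hdec hk htor
  exact NT.of_bn P S (by rw [hS]; exact hn) (by rw [hS]; exact hsup)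

end Cfsg.Agent.QTNorm

end

-- merged: Cfsg.Agent.QTNorm.TwF4
section

/-!
# `NT G` for `²F₄(q)`
-/

set_option autoImplicit false

namespace Cfsg.Agent.QTNorm

open Cfsg Cfsg.Lie
open Cfsg.Agent.ChevalleyStructure.TwF4.Rel
open Cfsg.Agent.ChevalleyStructure.TwF4.Groups Cfsg.Agent.ChevalleyStructure.TwF4.RankOne
open Cfsg.Agent.ChevalleyStructure.TwF4.Twisted Cfsg.Agent.ChevalleyStructure.TwF4.TwistedFix
open Cfsg.Agent.ChevalleyStructure.TwF4.BN
open Cfsg.Agent.ChevalleyStructure.TwF4.Torus (T chi T_conj_X T_inr)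
open Cfsg.Agent.ChevalleyStructure.TwF4.TwGen (tc)
open Cfsg.Agent.ChevalleyStructure.TwF4.TorusFix (mem_iff)
open Cfsg.Agent.Schreier.TwFFour

/-- the input of `NT.of_bn'` for `²F₄(2 ^ (2 m + 1))`, `m ≥ 0` -/
theorem twF4_data {K : Type*} [Field K] [Fintype K] {m : ℕ} (hK : Fintype.card K = 2 ^ (2 * m + 1)) [CharP K 2]
    {φ : K →+* K} (hφ : Rln φ (2 ^ m)) {P : Cfsg.BNPair ↥(twistedF4 K (2 ^ m))}
    (hPB : P.B = (chevF4.borelSubgroup K).subgroupOf (twistedF4 K (2 ^ m)))
    (hPN : P.N = (chevF4.monomialSubgroup K).subgroupOf (twistedF4 K (2 ^ m))) :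
    U0 K (2 ^ m) ≤ P.B ∧ P.B ≤ Subgroup.normalizer (U0 K (2 ^ m) : Set ↥(twistedF4 K (2 ^ m))) ∧
      (∀ b ∈ P.B, ∃ u ∈ U0 K (2 ^ m), u⁻¹ * b ∈ P.N) ∧
      (∀ h ∈ P.B, h ∈ P.N → h ^ (2 ^ (2 * m + 1) - 1) = 1) := by
  have hB : P.B = B0 K (2 ^ m) := hPB
  have hdec := dec hK hφ
  have key : ∀ b ∈ P.B, ∀ u ∈ U0 K (2 ^ m), b * u * b⁻¹ ∈ U0 K (2 ^ m) := by
    intro b hb u hu
    rw [hB] at hb
    exact conj_U0 hb hu
  refine ⟨?_, ?_, ?_, ?_⟩
  · rw [hB]; exact U0_le_B0
  · intro b hb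
    rw [Subgroup.mem_normalizer_iff]
    intro u
    constructor
    · exact key b hb u
    · intro hu
      have h1 := key b⁻¹ (inv_mem hb) _ hu
      have h2 : b⁻¹ * (b * u * b⁻¹) * b⁻¹⁻¹ = u := by group
      rwa [h2] at h1
  · intro b hb
    rw [hB] at hb
    obtain ⟨s, t, u, hu, hbu⟩ := hdec.1 b hb
    refine ⟨u, hu, ?_⟩
    rw [hPN, Subgroup.mem_subgroupOf, Subgroup.coe_mul, Subgroup.coe_inv, hbu, inv_mul_cancel_left]
    exact Cfsg.Agent.ChevalleyStructure.TwF4.NStruct.T_mem_N _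
  · intro h hh hN
    rw [hPB, Subgroup.mem_subgroupOf] at hh
    rw [hPN, Subgroup.mem_subgroupOf] at hN
    have h1 := borel_inf_N ⟨hh, hN⟩
    obtain ⟨s, t, hst⟩ := (mem_iff hK (h : GL chevF4.Idx K)).1 ⟨h1, h.2⟩
    apply Subtype.ext
    rw [Subgroup.coe_pow, hst, ← map_pow]
    have h2 : tc (2 ^ m) s t ^ (2 ^ (2 * m + 1) - 1) = 1 := by
      have h3 : ∀ x : Kˣ, x ^ (2 ^ (2 * m + 1) - 1) = 1 := by
        intro x
        have h4 := pow_card_eq_one' (x := x)
        rwa [Nat.card_units, Nat.card_eq_fintype_card, hK] at h4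
      funext l
      rw [Pi.pow_apply, h3]; rfl
    rw [h2, map_one]; rfl

theorem odd_exp (m : ℕ) : Odd (2 ^ (2 * m + 1) - 1) := by
  have h1 : 2 ∣ 2 ^ (2 * m + 1) := dvd_pow_self 2 (by omega)
  have h2 : 0 < 2 ^ (2 * m + 1) := by positivity
  rw [Nat.odd_iff]
  omega

theorem NT_twF4 {K : Type*} [Field K] [Fintype K] {m : ℕ} (hK : Fintype.card K = 2 ^ (2 * m + 1)) :
    NT ↥(twistedF4 K (2 ^ m)) := by
  have : CharP K 2 := charP_two hK
  obtain ⟨φ, hφ⟩ := exists_rln hK
  obtain ⟨P, hPB, hPN, -⟩ := exists_bnPair hφ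
  obtain ⟨h2, h3, h4, h5⟩ := twF4_data hK hφ hPB hPN
  exact NT.of_bn' P _ (isPGroup_U0 hK) h2 h3 h4 (odd_exp m) h5

/-- the Ree groups `²F₄(q)` -/
theorem NT_of_iso2F4 {G : Type*} [Group G] (h : Lie.Iso2F4 G) : NT G := by
  obtain ⟨K, _, _, m, -, hK, ⟨e⟩⟩ := h
  exact (NT_twF4 hK).congr e.symm

end Cfsg.Agent.QTNorm

end

-- merged: Cfsg.Agent.QTNorm.Tits
section

/-!
# `NT G` for the Tits group: the Sylow 2-subgroups of `²F₄(2)′` are self-normalising
-/

set_option autoImplicit false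

namespace Cfsg.Agent.QTNorm

open Cfsg Cfsg.Lie
open Cfsg.Agent.ChevalleyStructure.TwF4.Rel
open Cfsg.Agent.ChevalleyStructure.TwF4.Groups Cfsg.Agent.ChevalleyStructure.TwF4.RankOne
open Cfsg.Agent.ChevalleyStructure.TwF4.Twisted Cfsg.Agent.ChevalleyStructure.TwF4.TwistedFix
open Cfsg.Agent.ChevalleyStructure.TwF4.BN
open Cfsg.Agent.Schreier.TwFFour

/-- `N_H(B ∩ C) = B` for a subgroup `C` of index 2 of `H = ²F₄(2)` -/
theorem tits_norm {K : Type*} [Field K] [Fintype K] (hK : Fintype.card K = 2 ^ (2 * 0 + 1))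
    (C : Subgroup ↥(twistedF4 K (2 ^ 0))) (h2 : C.index = 2) :
    ∃ S : Sylow 2 ↥(twistedF4 K (2 ^ 0)), Subgroup.normalizer
      (((S : Subgroup ↥(twistedF4 K (2 ^ 0))) ⊓ C : Subgroup ↥(twistedF4 K (2 ^ 0))) : Set ↥(twistedF4 K (2 ^ 0))) ≤
        (S : Subgroup ↥(twistedF4 K (2 ^ 0))) := by
  have : CharP K 2 := charP_two hK
  have hfact : Fact (Nat.Prime 2) := ⟨Nat.prime_two⟩
  obtain ⟨φ, hφ⟩ := exists_rln hK
  obtain ⟨P, hPB, hPN, hPS⟩ := exists_bnPair hφ
  obtain ⟨hUB, hn, hdec, htor⟩ := twF4_data hK hφ hPB hPN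
  obtain ⟨hsup, S, hS⟩ := exists_sylow_of_bn P (U0 K (2 ^ 0)) (isPGroup_U0 hK) hUB hn hdec (odd_exp 0) htor
  -- `B = U0`
  have hBU : P.B = U0 K (2 ^ 0) := by
    rw [← hsup]
    apply le_antisymm _ le_sup_left
    refine sup_le le_rfl ?_
    rintro h ⟨h1, h3⟩
    have h4 := htor h h1 h3
    norm_num at h4
    rw [h4]
    exact one_mem _
  refine ⟨S, ?_⟩
  have hCn : C.Normal := Subgroup.normal_of_index_eq_two h2
  have hmul : ∀ a b, a * b ∈ C ↔ (a ∈ C ↔ b ∈ C) := fun a b => Subgroup.mul_mem_iff_of_index_two h2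
  rw [hS, ← hBU]
  set T : Subgroup ↥(twistedF4 K (2 ^ 0)) := P.B ⊓ C with hT
  -- `N(B ∩ C)` is parabolic
  have hBN : P.B ≤ Subgroup.normalizer (T : Set ↥(twistedF4 K (2 ^ 0))) := by
    rw [hT]
    intro b hb
    rw [Subgroup.mem_normalizer_iff]
    intro x
    rw [Subgroup.mem_inf, Subgroup.mem_inf]
    constructor
    · rintro ⟨h3, h4⟩
      exact ⟨mul_mem (mul_mem hb h3) (inv_mem hb), hCn.conj_mem x h4 b⟩
    · rintro ⟨h3, h4⟩
      have e : x = b⁻¹ * (b * x * b⁻¹) * b⁻¹⁻¹ := by group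
      refine ⟨?_, ?_⟩
      · rw [e]
        exact mul_mem (mul_mem (inv_mem hb) h3) (inv_mem (inv_mem hb))
      · rw [e]
        exact hCn.conj_mem _ h4 b⁻¹
  obtain ⟨J, hJ, hM⟩ := Cfsg.Agent.S0311.result P _ hBN
  -- the two reflections do not normalise `T`
  have hnot : ∀ {n x : ↥(twistedF4 K (2 ^ 0))}, n ∈ Subgroup.normalizer (T : Set ↥(twistedF4 K (2 ^ 0))) → x ∈ T →
      (n : GL chevF4.Idx K) * x * (n : GL chevF4.Idx K)⁻¹ ∈ chevF4.borelSubgroup K := by
    intro n x hn hx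
    have h3 : n * x * n⁻¹ ∈ T := (Subgroup.mem_normalizer_iff.1 hn x).1 hx
    have h4 : n * x * n⁻¹ ∈ P.B := h3.1
    rw [hPB] at h4
    exact h4
  have hone : ∀ {n x : ↥(twistedF4 K (2 ^ 0))}, (x : GL chevF4.Idx K) ≠ 1 →
      (n : GL chevF4.Idx K) * x * (n : GL chevF4.Idx K)⁻¹ ∈ GA K negB →
      n ∈ Subgroup.normalizer (T : Set ↥(twistedF4 K (2 ^ 0))) → x ∉ T :=
    fun hx1 hneg hn hx => conj_not_mem hx1 hneg (hnot hn hx)
  have hxaB : ∀ t : K, (⟨xa (2 ^ 0) t, xa_mem t⟩ : ↥(twistedF4 K (2 ^ 0))) ∈ P.B := by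
    intro t
    rw [hBU]
    exact xa_U t
  have hxbB : ∀ t u : K, (⟨xb (2 ^ 0) t u, xb_mem t u⟩ : ↥(twistedF4 K (2 ^ 0))) ∈ P.B := by
    intro t u
    rw [hBU]
    exact xb_U t u
  have hn1 : (⟨n1 K, n1_mem⟩ : ↥(twistedF4 K (2 ^ 0))) ∉ Subgroup.normalizer (T : Set ↥(twistedF4 K (2 ^ 0))) := by
    intro hn1
    set a : ↥(twistedF4 K (2 ^ 0)) := ⟨xa (2 ^ 0) 1, xa_mem 1⟩ with ha
    set nn2 : ↥(twistedF4 K (2 ^ 0)) := ⟨n2 K, n2_mem hφ.pos⟩ with hnn2
    have ha9 : (n1 K) * (a : GL chevF4.Idx K) * (n1 K)⁻¹ ∈ GA K negB :=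
      neg_le_neg' (cls_neg (by norm_num)) (n1_1_9 _ (xa_pos (2 ^ 0) 1))
    have haC : a ∉ C := by
      intro haC
      exact hone (n := ⟨n1 K, n1_mem⟩) (x := a) (xa_ne_one (2 ^ 0)) ha9 hn1 ⟨hxaB 1, haC⟩
    -- `y = n₂ a n₂⁻¹` lies in `X_7`
    set y : ↥(twistedF4 K (2 ^ 0)) := nn2 * a * nn2⁻¹ with hy
    have hy7 : (y : GL chevF4.Idx K) ∈ GA K (clsB 7) := n2_cls (k := 1) (k' := 7) (by norm_num) _ (xa_pos (2 ^ 0) 1)
    have hyB : y ∈ P.B := by
      rw [hBU]
      exact pos_le_pos (cls_pos (by norm_num)) hy7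
    have hyC : y ∉ C := by
      intro h3
      apply haC
      have h4 := hCn.conj_mem y h3 nn2⁻¹
      have h5 : nn2⁻¹ * y * nn2⁻¹⁻¹ = a := by rw [hy]; group
      rwa [h5] at h4
    have hay : a * y ∈ T := ⟨mul_mem (hxaB 1) hyB, (hmul a y).2 (iff_of_false haC hyC)⟩
    have h3 := hnot hn1 hay
    have h4 : (n1 K) * (y : GL chevF4.Idx K) * (n1 K)⁻¹ ∈ GA K posB := by
      refine n1_ge2 _ (GA_mono ?_ hy7)
      intro r hr hr7
      have h5 := cls_pos (k := 7) (by norm_num) r hr hr7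
      have h6 : cls r = 7 := of_decide_eq_true hr7
      unfold geB
      rw [h6]
      simp [h5]
    have h5 : (n1 K) * (y : GL chevF4.Idx K) * (n1 K)⁻¹ ∈ chevF4.borelSubgroup K := U_le_borel h4
    have h6 : (n1 K) * (a : GL chevF4.Idx K) * (n1 K)⁻¹ ∈ chevF4.borelSubgroup K := by
      have h7 : (n1 K) * (a : GL chevF4.Idx K) * (n1 K)⁻¹ =
          ((n1 K) * ((a * y : ↥(twistedF4 K (2 ^ 0))) : GL chevF4.Idx K) * (n1 K)⁻¹) *
            ((n1 K) * (y : GL chevF4.Idx K) * (n1 K)⁻¹)⁻¹ := by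
        rw [Subgroup.coe_mul]; group
      rw [h7]
      exact mul_mem h3 (inv_mem h5)
    exact conj_not_mem (xa_ne_one (2 ^ 0)) ha9 h6
  have hn2 : (⟨n2 K, n2_mem hφ.pos⟩ : ↥(twistedF4 K (2 ^ 0))) ∉
      Subgroup.normalizer (T : Set ↥(twistedF4 K (2 ^ 0))) := by
    intro hn2
    have h16 : (n2 K) * (xb (2 ^ 0) 0 1 : GL chevF4.Idx K) * (n2 K)⁻¹ ∈ GA K negB :=
      neg_le_neg' (cls_neg (by norm_num)) (n2_8_16 _ (xb_pos (2 ^ 0) 0 1))
    have hsq : (⟨xb (2 ^ 0) 0 1, xb_mem 0 1⟩ : ↥(twistedF4 K (2 ^ 0))) =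
        (⟨xb (2 ^ 0) 1 0, xb_mem 1 0⟩ : ↥(twistedF4 K (2 ^ 0))) * ⟨xb (2 ^ 0) 1 0, xb_mem 1 0⟩ := by
      apply Subtype.ext
      rw [Subgroup.coe_mul]
      show xb (2 ^ 0) 0 1 = xb (2 ^ 0) 1 0 * xb (2 ^ 0) 1 0
      rw [xb_mul hφ]
      congr 1
      · exact (CharTwo.add_self_eq_zero 1).symm
      · simp
    have hzC : (⟨xb (2 ^ 0) 0 1, xb_mem 0 1⟩ : ↥(twistedF4 K (2 ^ 0))) ∈ C := by
      rw [hsq, hmul]
    exact hone (n := ⟨n2 K, n2_mem hφ.pos⟩) (x := ⟨xb (2 ^ 0) 0 1, xb_mem 0 1⟩) (xb_ne_one (2 ^ 0)) h16 hn2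
      ⟨hxbB 0 1, hzC⟩
  have hJ0 : J = ∅ := by
    rw [Set.eq_empty_iff_forall_notMem]
    intro s hs
    have hsM : s ∈ Subgroup.normalizer (T : Set ↥(twistedF4 K (2 ^ 0))) := by
      rw [hM]
      exact Subgroup.mem_sup_right (Subgroup.subset_closure hs)
    have hsS := hJ hs
    rw [hPS] at hsS
    obtain ⟨i, rfl⟩ := hsS
    fin_cases i
    · exact hn1 hsM
    · exact hn2 hsM
  rw [hM, hJ0]
  unfold BNPair.parabolic
  rw [Subgroup.closure_empty, sup_bot_eq]

/-- the Sylow 2-subgroups of a normal subgroup `C` with `N(S ∩ C) = S` are self-normalising -/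
theorem self_of_norm_inf {H : Type*} [Group H] [Finite H] (C : Subgroup H) [C.Normal] (S : Sylow 2 H)
    (h : Subgroup.normalizer (((S : Subgroup H) ⊓ C : Subgroup H) : Set H) ≤ (S : Subgroup H)) (T : Sylow 2 C) :
    Subgroup.normalizer ((T : Subgroup C) : Set C) ≤ (T : Subgroup C) := by
  have hfact : Fact (Nat.Prime 2) := ⟨Nat.prime_two⟩
  let T₀ : Sylow 2 C := (Lib.SylowNormalInf.isPGroup_subgroupOf S C).toSylow (Lib.SylowNormalInf.not_dvd_relIndex S C)
  have hT₀ : (T₀ : Subgroup C) = (S : Subgroup H).subgroupOf C := rfl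
  refine self_all T₀ ?_ T
  intro x hx
  rw [hT₀] at hx ⊢
  rw [Subgroup.mem_subgroupOf]
  apply h
  rw [Subgroup.mem_normalizer_iff]
  intro y
  have hCn : C.Normal := inferInstance
  have hyC : x * y * (x : H)⁻¹ ∈ C ↔ y ∈ C := by
    constructor
    · intro h1
      have h2 := hCn.conj_mem _ h1 (x : H)⁻¹
      have e : (x : H)⁻¹ * (x * y * (x : H)⁻¹) * (x : H)⁻¹⁻¹ = y := by group
      rwa [e] at h2
    · intro h1
      exact hCn.conj_mem _ h1 x
  rw [Subgroup.mem_inf, Subgroup.mem_inf, hyC]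
  constructor
  · rintro ⟨h1, h2⟩
    exact ⟨(Subgroup.mem_normalizer_iff.1 hx ⟨y, h2⟩).1 h1, h2⟩
  · rintro ⟨h1, h2⟩
    exact ⟨(Subgroup.mem_normalizer_iff.1 hx ⟨y, h2⟩).2 h1, h2⟩

/-- the Tits group -/
theorem self_tits (T : Sylow 2 Cfsg.Lie.TitsGroup) :
    Subgroup.normalizer ((T : Subgroup Cfsg.Lie.TitsGroup) : Set Cfsg.Lie.TitsGroup) ≤
      (T : Subgroup Cfsg.Lie.TitsGroup) := by
  have hK : Fintype.card (ZMod 2) = 2 ^ (2 * 0 + 1) := by simp [ZMod.card]
  obtain ⟨S, hS⟩ := tits_norm hK (commutator ↥(twistedF4 (ZMod 2) (2 ^ 0))) Cfsg.Agent.S1074.result.1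
  exact self_of_norm_inf _ S hS T

/-- the Tits group -/
theorem NT_of_iso_self {G H : Type*} [Group G] [Group H] (h : Nonempty (G ≃* H))
    (hs : ∀ T : Sylow 2 H, Subgroup.normalizer ((T : Subgroup H) : Set H) ≤ (T : Subgroup H)) : NT G := by
  obtain ⟨e⟩ := h
  exact NT.congr e.symm (NT.of_self hs)

/-- the Tits group -/
theorem NT_of_isoTits {G : Type*} [Group G] (h : Lie.IsoTits G) : NT G :=
  NT_of_iso_self (H := Cfsg.Lie.TitsGroup) h self_tits

end Cfsg.Agent.QTNorm

end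

-- merged: Cfsg.Agent.QTNorm.LieRow
section

/-!
# The characteristic-2 rows of the list of the quasithin classification

`lieRank_cases` : a group on the list `IsLieRankLETwoCharTwo` is `IsLieFilt 2`, or `Sz(q)`, `²F₄(q)`, `²F₄(2)'`;
`lieFilt_two`   : the same for `L₄(2)`, `L₅(2)`, `Sp₆(2)`.
-/

set_option autoImplicit false

namespace Cfsg.Agent.QTNorm

open Cfsg Cfsg.Agent.KFacts.RgdLieCharP

variable {G : Type*} [Group G]

theorem charP_two {F : Type*} [Field F] [Fintype F] {k : ℕ} (h : Fintype.card F = 2 ^ k) : CharP F 2 := by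
  have : Fact (Nat.Prime 2) := ⟨Nat.prime_two⟩
  exact charP_of_card_eq_prime_pow h

theorem two_pow_ne_two {n : ℕ} (h : 2 ≤ n) : (2 : ℕ) ^ n ≠ 2 := by
  have : 2 ^ 2 ≤ 2 ^ n := Nat.pow_le_pow_right (by norm_num) h
  omega

theorem lieRank_cases (h : IsLieRankLETwoCharTwo G) :
    IsLieFilt 2 G ∨ Lie.IsoSuzuki G ∨ Lie.Iso2F4 G ∨ Lie.IsoTits G := by
  rcases h with (⟨F, _, _, hF, hq, e⟩ | ⟨F, _, _, n, hn, hF, e⟩ | h) | ⟨F, _, _, hF, e | ⟨hq, e⟩ | ⟨hq, e⟩⟩ |
    ⟨F, _, _, n, hn, hF, e⟩ | ⟨F, _, _, hF, e⟩ | ⟨K, _, _, n, hn, hF, e⟩ | h | h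
  · exact .inl (.inl ⟨F, _, _, hF, 2, le_rfl, fun _ => hq, e⟩)
  · have : CharP F 2 := charP_two (k := n * 2) (by rw [hF, pow_mul])
    exact .inl (.inr (.inr (.inl ⟨F, _, _, this, 3, 2 ^ n, hF, le_rfl, fun h => two_pow_ne_two hn h.2, e⟩)))
  · exact .inr (.inl h)
  · exact .inl (.inl ⟨F, inferInstance, inferInstance, hF, 3, by norm_num, fun h => absurd h (by norm_num), e⟩)
  · exact .inl (.inr (.inl ⟨F, inferInstance, inferInstance, hF, 2, le_rfl, fun _ => by omega, e⟩))
  · exact .inl (.inr (.inr (.inr (.inr (.inr (.inr (.inl ⟨F, inferInstance, inferInstance, hF, .inl ⟨by omega, e⟩⟩)))))))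
  · have : CharP F 2 := charP_two (k := n * 2) (by rw [hF, pow_mul])
    exact .inl (.inr (.inr (.inl ⟨F, _, _, this, 4, 2 ^ n, hF, by norm_num, fun h => absurd h.1 (by norm_num), e⟩)))
  · have : CharP F 2 := charP_two (k := 4) (by rw [hF]; norm_num)
    exact .inl (.inr (.inr (.inl ⟨F, _, _, this, 5, 4, by rw [hF]; norm_num, by norm_num,
      fun h => absurd h.1 (by norm_num), e⟩)))
  · have : CharP K 2 := charP_two (k := n * 3) (by rw [hF, pow_mul])
    have h2 : IsPrimePow (2 ^ n) := Nat.prime_two.isPrimePow.pow (by omega)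
    exact .inl (.inr (.inr (.inr (.inr (.inr (.inr (.inr ⟨K, _, _, this, 2 ^ n, h2, .inr ⟨hF, e⟩⟩)))))))
  · exact .inr (.inr (.inl h))
  · exact .inr (.inr (.inr h))

theorem lieFilt_two
    (h : ∃ (F : Type) (_ : Field F) (_ : Fintype F), Fintype.card F = 2 ∧
      (Nonempty (G ≃* Matrix.ProjectiveSpecialLinearGroup (Fin 4) F) ∨
        Nonempty (G ≃* Matrix.ProjectiveSpecialLinearGroup (Fin 5) F) ∨ Nonempty (G ≃* PSp 3 F))) :
    IsLieFilt 2 G := by
  obtain ⟨F, _, _, hF, e | e | e⟩ := h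
  all_goals have hc : CharP F 2 := charP_two (k := 1) (by rw [hF]; norm_num)
  · exact .inl ⟨F, inferInstance, inferInstance, hc, 4, by norm_num, fun h => absurd h (by norm_num), e⟩
  · exact .inl ⟨F, inferInstance, inferInstance, hc, 5, by norm_num, fun h => absurd h (by norm_num), e⟩
  · exact .inr (.inl ⟨F, inferInstance, inferInstance, hc, 3, by norm_num, fun h => absurd h (by norm_num), e⟩)

end Cfsg.Agent.QTNorm

end

-- merged: Cfsg.Agent.QTNorm.LieMain
section

/-!
# `NT G` for the characteristic-2 rows of the list of the quasithin classification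
-/

set_option autoImplicit false

namespace Cfsg.Agent.QTNorm

open Cfsg

universe u

variable {G : Type u} [Group G]

theorem exists_noncomm (hG : ¬ IsMulCommutative G) : ∃ a b : G, a * b ≠ b * a := by
  by_contra h
  push Not at h
  exact hG ⟨⟨h⟩⟩

/-- Lie type, characteristic 2, rank at most 2 -/
theorem NT_of_lieRank [Finite G] [IsSimpleGroup G] (hG : ¬ IsMulCommutative G) (h : IsLieRankLETwoCharTwo G) :
    NT G := by
  rcases lieRank_cases h with h | h | h | h
  · exact NT_of_lieFilt h (exists_noncomm hG)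
  · exact NT_of_sz h
  · exact NT_of_iso2F4 h
  · exact NT_of_isoTits h

/-- `L₄(2)`, `L₅(2)`, `Sp₆(2)` -/
theorem NT_of_two [Finite G] [IsSimpleGroup G] (hG : ¬ IsMulCommutative G)
    (h : ∃ (F : Type) (_ : Field F) (_ : Fintype F), Fintype.card F = 2 ∧
      (Nonempty (G ≃* Matrix.ProjectiveSpecialLinearGroup (Fin 4) F) ∨
        Nonempty (G ≃* Matrix.ProjectiveSpecialLinearGroup (Fin 5) F) ∨ Nonempty (G ≃* PSp 3 F))) : NT G :=
  NT_of_lieFilt (lieFilt_two h) (exists_noncomm hG)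

end Cfsg.Agent.QTNorm

end

-- merged: Cfsg.Agent.QTNorm.AltFive
section

/-!
# `NT A₅`: the Sylow 2-subgroups are TI.
-/

set_option autoImplicit false

namespace Cfsg.Agent.QTNorm

open Cfsg

universe u

theorem alt5_comm : ∀ x : alternatingGroup (Fin 5), x * x = 1 → x ≠ 1 → ∀ y : alternatingGroup (Fin 5),
    y * x = x * y → (y * y = 1 ∧ ∀ z : alternatingGroup (Fin 5), z * x = x * z → y * z = z * y) := by
  decide +kernel

theorem alt5_two : ∀ x : alternatingGroup (Fin 5), (x * x) * (x * x) = 1 → x * x = 1 := by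
  decide +kernel

theorem sq_one_of_twoPower {x : alternatingGroup (Fin 5)} : ∀ k : ℕ, x ^ 2 ^ k = 1 → x * x = 1
  | 0, h => by
    rw [pow_zero, pow_one] at h
    rw [h, one_mul]
  | 1, h => by
    rw [pow_one, pow_two] at h
    exact h
  | k + 2, h => by
    apply sq_one_of_twoPower (k + 1)
    have h1 : (x ^ 2 ^ k * x ^ 2 ^ k) * (x ^ 2 ^ k * x ^ 2 ^ k) = 1 := by
      rw [← pow_add, ← pow_add, ← h]
      congr 1
      ring
    have h2 := alt5_two _ h1
    rw [← pow_add] at h2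
    rw [← h2]
    congr 1
    ring

theorem NT_alt5 : NT (alternatingGroup (Fin 5)) := by
  have : Fact (Nat.Prime 2) := ⟨Nat.prime_two⟩
  obtain ⟨T⟩ : Nonempty (Sylow 2 (alternatingGroup (Fin 5))) := inferInstance
  have hsq : ∀ x ∈ (T : Subgroup (alternatingGroup (Fin 5))), x * x = 1 := by
    intro x hx
    obtain ⟨k, hk⟩ := T.2 ⟨x, hx⟩
    exact sq_one_of_twoPower k (by simpa using congrArg Subtype.val hk)
  have hcT : ∀ x ∈ (T : Subgroup (alternatingGroup (Fin 5))), ∀ y ∈ (T : Subgroup (alternatingGroup (Fin 5))),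
      y * x = x * y := by
    intro x hx y hy
    have h1 := hsq _ (mul_mem hx hy)
    have hx2 := hsq x hx
    have hy2 := hsq y hy
    calc y * x = 1 * (y * x) * 1 := by group
      _ = (x * x) * (y * x) * (y * y) := by rw [hx2, hy2]
      _ = x * ((x * y) * (x * y)) * y := by group
      _ = x * y := by rw [h1, mul_one]
  have hT : ∀ x ∈ (T : Subgroup (alternatingGroup (Fin 5))), x ≠ 1 → ∀ y, y * x = x * y →
      y ∈ (T : Subgroup (alternatingGroup (Fin 5))) := by
    intro x hx hx1 y hy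
    have h1 : IsPGroup 2 (Subgroup.centralizer ({x} : Set (alternatingGroup (Fin 5)))) := by
      rintro ⟨z, hz⟩
      refine ⟨1, Subtype.ext ?_⟩
      have := (alt5_comm x (hsq x hx) hx1 z (Subgroup.mem_centralizer_singleton_iff.1 hz)).1
      simpa [pow_two] using this
    have h2 : (T : Subgroup (alternatingGroup (Fin 5))) ≤ Subgroup.centralizer ({x} : Set (alternatingGroup (Fin 5))) :=
      fun z hz => Subgroup.mem_centralizer_singleton_iff.2 (hcT x hx z hz)
    rw [← T.3 h1 h2]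
    exact Subgroup.mem_centralizer_singleton_iff.2 hy
  refine NT.of_ti T fun g x hx hx1 hgx => ?_
  have hg1 : g * x * g⁻¹ ≠ 1 := by
    intro h
    apply hx1
    calc x = g⁻¹ * (g * x * g⁻¹) * g := by group
      _ = 1 := by rw [h]; group
  rw [Subgroup.mem_normalizer_iff]
  intro y
  constructor
  · intro hy
    refine hT _ hgx hg1 _ ?_
    have := hcT x hx y hy
    calc g * y * g⁻¹ * (g * x * g⁻¹) = g * (y * x) * g⁻¹ := by group
      _ = g * (x * y) * g⁻¹ := by rw [this]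
      _ = g * x * g⁻¹ * (g * y * g⁻¹) := by group
  · intro hy
    refine hT _ hx hx1 _ ?_
    have := hcT _ hgx _ hy
    calc y * x = g⁻¹ * ((g * y * g⁻¹) * (g * x * g⁻¹)) * g := by group
      _ = g⁻¹ * ((g * x * g⁻¹) * (g * y * g⁻¹)) * g := by rw [this]
      _ = x * y := by group

theorem NT_of_alt5 {G : Type u} [Group G] (e : Nonempty (G ≃* alternatingGroup (Fin 5))) : NT G :=
  e.elim fun e => NT.congr e.symm NT_alt5

end Cfsg.Agent.QTNorm

end

-- merged: Cfsg.Agent.QTNorm.AltNine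
section

/-!
# Rows `A_8`, `A_9` of the self-normalizing Sylow 2-subgroup table
-/

set_option autoImplicit false

namespace Cfsg.Agent.QTNorm.AltNine

open Subgroup Cfsg.Agent.QTNorm.SelfNorm

abbrev P := Equiv.Perm (Fin 9)
abbrev Q4 := Equiv.Perm (Fin 4)

/-- `(0 1)(2 3)(4 5)(6 7)` -/
def z : P := ⟨![1, 0, 3, 2, 5, 4, 7, 6, 8], ![1, 0, 3, 2, 5, 4, 7, 6, 8], by decide, by decide⟩
/-- `(0 1)(2 3)` -/
def s1 : P := ⟨![1, 0, 3, 2, 4, 5, 6, 7, 8], ![1, 0, 3, 2, 4, 5, 6, 7, 8], by decide, by decide⟩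
/-- `(0 1)(4 5)` -/
def s2 : P := ⟨![1, 0, 2, 3, 5, 4, 6, 7, 8], ![1, 0, 2, 3, 5, 4, 6, 7, 8], by decide, by decide⟩
/-- `(0 2)(1 3)` -/
def s3 : P := ⟨![2, 3, 0, 1, 4, 5, 6, 7, 8], ![2, 3, 0, 1, 4, 5, 6, 7, 8], by decide, by decide⟩
/-- `(0 4)(1 5)(2 6)(3 7)` -/
def s4 : P := ⟨![4, 5, 6, 7, 0, 1, 2, 3, 8], ![4, 5, 6, 7, 0, 1, 2, 3, 8], by decide, by decide⟩
/-- `(4 6)(5 7)` -/
def d : P := ⟨![0, 1, 2, 3, 6, 7, 4, 5, 8], ![0, 1, 2, 3, 6, 7, 4, 5, 8], by decide, by decide⟩

def a : Fin 4 → Fin 9 := ![0, 2, 4, 6]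
def b : Fin 9 → Fin 4 := ![0, 0, 1, 1, 2, 2, 3, 3, 3]

theorem b_a (i : Fin 4) : b (a i) = i := by revert i; decide
theorem a_ne (i : Fin 4) : a i ≠ 8 := by revert i; decide
theorem a_b (j : Fin 9) (hj : j ≠ 8) : a (b j) = j ∨ a (b j) = z j := by revert j; decide
theorem b_z (j : Fin 9) : b (z j) = b j := by revert j; decide
theorem z_ne (j : Fin 9) (hj : j ≠ 8) : z j ≠ j := by revert j; decide
theorem z_eight : z 8 = 8 := by decide
theorem z_z (j : Fin 9) : z (z j) = j := by revert j; decide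

theorem comm_apply {x : P} (hx : x ∈ centralizer ({z} : Set P)) (j : Fin 9) : x (z j) = z (x j) := by
  have h := mem_centralizer_iff.1 hx z rfl
  exact (Equiv.Perm.congr_fun h j).symm

theorem ne_eight {x : P} (hx : x ∈ centralizer ({z} : Set P)) {j : Fin 9} (hj : j ≠ 8) : x j ≠ 8 := by
  intro h
  have h1 := comm_apply hx j
  rw [h, z_eight, ← h] at h1
  exact z_ne j hj (x.injective h1)

theorem key {x : P} (hx : x ∈ centralizer ({z} : Set P)) {j : Fin 9} (hj : j ≠ 8) : b (x (a (b j))) = b (x j) := by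
  rcases a_b j hj with h | h
  · rw [h]
  · rw [h, comm_apply hx, b_z]

/-- the action on the blocks -/
def phi : centralizer ({z} : Set P) →* Q4 where
  toFun x :=
    { toFun := fun i => b (x.1 (a i))
      invFun := fun i => b (x.1⁻¹ (a i))
      left_inv := fun i => by
        show b (x.1⁻¹ (a (b (x.1 (a i))))) = i
        rw [key (inv_mem x.2) (ne_eight x.2 (a_ne i)), show x.1⁻¹ (x.1 (a i)) = a i from x.1.symm_apply_apply _, b_a]
      right_inv := fun i => by
        show b (x.1 (a (b (x.1⁻¹ (a i))))) = i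
        rw [key x.2 (ne_eight (inv_mem x.2) (a_ne i)), show x.1 (x.1⁻¹ (a i)) = a i from x.1.apply_symm_apply _, b_a] }
  map_one' := by
    ext i : 1
    exact b_a i
  map_mul' x y := by
    ext i : 1
    show b (x.1 (y.1 (a i))) = b (x.1 (a (b (y.1 (a i)))))
    rw [key x.2 (ne_eight y.2 (a_ne i))]

theorem phi_apply (x : centralizer ({z} : Set P)) (i : Fin 4) : phi x i = b (x.1 (a i)) := rfl

theorem sq_of_ker {x : P} (hx : x ∈ centralizer ({z} : Set P)) (h : phi ⟨x, hx⟩ = 1) : x ^ 2 = 1 := by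
  have h8 : x 8 = 8 := by
    by_contra h8
    have h1 := comm_apply hx 8
    rw [z_eight] at h1
    exact z_ne (x 8) h8 h1.symm
  ext j : 1
  rw [pow_two, Equiv.Perm.mul_apply, Equiv.Perm.one_apply]
  by_cases hj : j = 8
  · rw [hj, h8, h8]
  have h2 : b (x j) = b j := by
    rw [← key hx hj]
    have h3 := Equiv.Perm.congr_fun h (b j)
    rw [phi_apply] at h3
    exact h3
  have h3 := ne_eight hx hj
  have h4 : x j = j ∨ x j = z j := by
    have : ∀ j k : Fin 9, j ≠ 8 → k ≠ 8 → b k = b j → k = j ∨ k = z j := by decide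
    exact this j (x j) hj h3 h2
  rcases h4 with h4 | h4
  · rw [h4, h4]
  · rw [h4, comm_apply hx, h4, z_z]

/-- the preimage in `A_9` of a subgroup of `S_4` -/
def Kc (V : Subgroup Q4) : Subgroup (alternatingGroup (Fin 9)) :=
  ((V.comap phi).map (centralizer ({z} : Set P)).subtype).subgroupOf (alternatingGroup (Fin 9))

theorem mem_Kc {V : Subgroup Q4} {x : alternatingGroup (Fin 9)} :
    x ∈ Kc V ↔ ∃ h : (x : P) ∈ centralizer ({z} : Set P), phi ⟨x, h⟩ ∈ V := by
  constructor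
  · rintro ⟨y, hy, h⟩
    have h' : (y : P) = (x : P) := h
    have hy' : phi y ∈ V := hy
    refine ⟨h' ▸ y.2, ?_⟩
    have : (⟨(x : P), h' ▸ y.2⟩ : centralizer ({z} : Set P)) = y := Subtype.ext h'.symm
    rw [this]
    exact hy'
  · rintro ⟨h, hV⟩
    exact ⟨⟨x, h⟩, hV, rfl⟩

theorem isPGroup_Kc {V : Subgroup Q4} (hV : ∀ s ∈ V, s ^ 4 = 1) : IsPGroup 2 (Kc V) := by
  rintro ⟨x, hx⟩
  refine ⟨3, ?_⟩
  obtain ⟨h, h1⟩ := mem_Kc.1 hx
  apply Subtype.ext
  apply Subtype.ext
  show (x : P) ^ 2 ^ 3 = 1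
  have h2 : phi ⟨(x : P) ^ 4, pow_mem h 4⟩ = 1 := by
    have : (⟨(x : P) ^ 4, pow_mem h 4⟩ : centralizer ({z} : Set P)) = ⟨x, h⟩ ^ 4 := rfl
    rw [this, map_pow, hV _ h1]
  have h3 := sq_of_ker (pow_mem h 4) h2
  rw [← pow_mul] at h3
  exact h3

/-- the four-group -/
def V4 : Subgroup Q4 where
  carrier := {s | Equiv.Perm.sign s = 1 ∧ s ^ 2 = 1}
  one_mem' := by decide
  mul_mem' := by
    have : ∀ s t : Q4, (Equiv.Perm.sign s = 1 ∧ s ^ 2 = 1) → (Equiv.Perm.sign t = 1 ∧ t ^ 2 = 1) →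
        (Equiv.Perm.sign (s * t) = 1 ∧ (s * t) ^ 2 = 1) := by decide +kernel
    exact @this
  inv_mem' := by
    have : ∀ s : Q4, (Equiv.Perm.sign s = 1 ∧ s ^ 2 = 1) →
        (Equiv.Perm.sign s⁻¹ = 1 ∧ (s⁻¹) ^ 2 = 1) := by decide +kernel
    exact @this

theorem mem_V4 {s : Q4} : s ∈ V4 ↔ Equiv.Perm.sign s = 1 ∧ s ^ 2 = 1 := Iff.rfl

/-- `(0 1)(2 3)` -/
def t0 : Q4 := ⟨![1, 0, 3, 2], ![1, 0, 3, 2], by decide, by decide⟩

theorem z_mem : z ∈ alternatingGroup (Fin 9) := by
  rw [Equiv.Perm.mem_alternatingGroup]; decide +kernel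
theorem s1_mem : s1 ∈ alternatingGroup (Fin 9) := by
  rw [Equiv.Perm.mem_alternatingGroup]; decide +kernel
theorem s2_mem : s2 ∈ alternatingGroup (Fin 9) := by
  rw [Equiv.Perm.mem_alternatingGroup]; decide +kernel
theorem s3_mem : s3 ∈ alternatingGroup (Fin 9) := by
  rw [Equiv.Perm.mem_alternatingGroup]; decide +kernel
theorem s4_mem : s4 ∈ alternatingGroup (Fin 9) := by
  rw [Equiv.Perm.mem_alternatingGroup]; decide +kernel
theorem d_mem : d ∈ alternatingGroup (Fin 9) := by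
  rw [Equiv.Perm.mem_alternatingGroup]; decide +kernel

theorem mem_R {x : P} (hx : x ∈ alternatingGroup (Fin 9)) (h : z * x = x * z)
    (h' : ∀ i, t0 (b (x (a i))) = b (x (a (t0 i)))) :
    (⟨x, hx⟩ : alternatingGroup (Fin 9)) ∈ Kc (centralizer {t0}) := by
  rw [mem_Kc]
  refine ⟨mem_centralizer_iff.2 (by rintro _ rfl; exact h), ?_⟩
  rw [mem_centralizer_iff]
  rintro _ rfl
  ext i : 1
  exact h' i

theorem sn_nine : SN (alternatingGroup (Fin 9)) := by
  have hz2 : orderOf (⟨z, z_mem⟩ : alternatingGroup (Fin 9)) = 2 := by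
    rw [orderOf_eq_prime_iff]
    refine ⟨Subtype.ext (by decide : z ^ 2 = 1), fun h => ?_⟩
    exact absurd (congrArg Subtype.val h) (by decide : z ≠ 1)
  refine criterion (z := ⟨z, z_mem⟩) (d := ⟨d, d_mem⟩)
    (S0 := {⟨z, z_mem⟩, ⟨s1, s1_mem⟩, ⟨s2, s2_mem⟩, ⟨s3, s3_mem⟩, ⟨s4, s4_mem⟩})
    (R := Kc (centralizer {t0})) (K := Kc (alternatingGroup (Fin 4))) (Q := Kc V4)
    (isPGroup_Kc ?_) ?_ hz2 ?_ ?_ ?_ (isPGroup_Kc ?_) ?_ ?_ ?_
  · intro s hs
    have h : t0 * s = s * t0 := mem_centralizer_iff.1 hs t0 rfl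
    revert s
    have : ∀ s : Q4, t0 * s = s * t0 → s ^ 4 = 1 := by decide +kernel
    intro s _ h
    exact this s h
  · intro x hx
    simp only [Set.mem_insert_iff, Set.mem_singleton_iff] at hx
    rcases hx with rfl | rfl | rfl | rfl | rfl
    · exact mem_R _ (by decide) (by decide)
    · exact mem_R _ (by decide) (by decide)
    · exact mem_R _ (by decide) (by decide)
    · exact mem_R _ (by decide) (by decide)
    · exact mem_R _ (by decide) (by decide)
  · -- the only involution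
    intro w hw hc
    have hc' : ∀ s : P, ∀ hs : s ∈ alternatingGroup (Fin 9), (⟨s, hs⟩ : alternatingGroup (Fin 9)) ∈
        ({⟨z, z_mem⟩, ⟨s1, s1_mem⟩, ⟨s2, s2_mem⟩, ⟨s3, s3_mem⟩, ⟨s4, s4_mem⟩} :
          Set (alternatingGroup (Fin 9))) → ∀ j, (w : P) (s j) = s ((w : P) j) := by
      intro s hs h j
      exact (Equiv.Perm.congr_fun (congrArg Subtype.val (hc _ h)) j).symm
    have hz' := hc' z z_mem (by simp)
    have h1' := hc' s1 s1_mem (by simp)
    have h2' := hc' s2 s2_mem (by simp)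
    have h3' := hc' s3 s3_mem (by simp)
    have h4' := hc' s4 s4_mem (by simp)
    have e1 : (w : P) 1 = z ((w : P) 0) := hz' 0
    have e2 : (w : P) 2 = s3 ((w : P) 0) := h3' 0
    have e3 : (w : P) 3 = z (s3 ((w : P) 0)) := by rw [← e2]; exact hz' 2
    have e4 : (w : P) 4 = s4 ((w : P) 0) := h4' 0
    have e5 : (w : P) 5 = z (s4 ((w : P) 0)) := by rw [← e4]; exact hz' 4
    have e6 : (w : P) 6 = s4 (s3 ((w : P) 0)) := by rw [← e2]; exact h4' 2
    have e7 : (w : P) 7 = z (s4 (s3 ((w : P) 0))) := by rw [← e6]; exact hz' 6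
    have f1 : (w : P) 1 = s1 ((w : P) 0) := h1' 0
    have f2 : (w : P) 1 = s2 ((w : P) 0) := h2' 0
    have h8 : (w : P) 8 = z ((w : P) 8) := hz' 8
    have h8' : (w : P) 8 = 8 := by
      revert h8
      generalize (w : P) 8 = c
      revert c
      decide
    have h0 : (w : P) 0 = 0 ∨ (w : P) 0 = 1 := by
      have g1 : (w : P) 0 ≠ 8 := by
        intro h
        rw [← h8'] at h
        exact absurd ((w : P).injective h) (by decide)
      rw [e1] at f1 f2
      revert f1 f2 g1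
      generalize (w : P) 0 = c
      revert c
      decide
    have hw1 : w ≠ 1 := by
      rintro rfl
      rw [orderOf_one] at hw
      exact absurd hw (by norm_num)
    rcases h0 with h0 | h0
    · exfalso
      apply hw1
      rw [h0] at e1 e2 e3 e4 e5 e6 e7
      apply Subtype.ext
      ext j : 1
      fin_cases j
      · exact h0
      · exact e1
      · exact e2
      · exact e3
      · exact e4
      · exact e5
      · exact e6
      · exact e7
      · exact h8'
    · rw [h0] at e1 e2 e3 e4 e5 e6 e7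
      apply Subtype.ext
      ext j : 1
      fin_cases j
      · exact h0
      · exact e1
      · exact e2
      · exact e3
      · exact e4
      · exact e5
      · exact e6
      · exact e7
      · exact h8'
  · -- odd order
    intro x hx hodd
    have h1 : (x : P) ∈ centralizer ({z} : Set P) := by
      rw [mem_centralizer_iff]
      rintro _ rfl
      exact (congrArg Subtype.val hx).symm
    rw [mem_Kc]
    refine ⟨h1, ?_⟩
    rw [Equiv.Perm.mem_alternatingGroup]
    have h2 : (⟨(x : P), h1⟩ : centralizer ({z} : Set P)) ^ orderOf x = 1 := by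
      apply Subtype.ext
      have := congrArg Subtype.val (pow_orderOf_eq_one x)
      exact this
    have h3 : (Equiv.Perm.sign (phi ⟨(x : P), h1⟩)) ^ orderOf x = 1 := by
      rw [← map_pow, ← map_pow, h2, map_one, map_one]
    rcases Int.units_eq_one_or (Equiv.Perm.sign (phi ⟨(x : P), h1⟩)) with h | h
    · exact h
    · rw [h, Odd.neg_one_pow hodd] at h3
      exact absurd h3 (by decide)
  · -- 2-elements of K
    intro x hx hn
    obtain ⟨n, hn⟩ := hn
    obtain ⟨h, h1⟩ := mem_Kc.1 hx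
    rw [mem_Kc]
    refine ⟨h, ?_⟩
    rw [Equiv.Perm.mem_alternatingGroup] at h1
    have h2 : (phi ⟨(x : P), h⟩) ^ 2 ^ n = 1 := by
      rw [← map_pow]
      have : (⟨(x : P), h⟩ : centralizer ({z} : Set P)) ^ 2 ^ n = 1 := by
        apply Subtype.ext
        have := congrArg Subtype.val hn
        exact this
      rw [this, map_one]
    rw [mem_V4]
    refine ⟨h1, ?_⟩
    revert h1 h2
    generalize phi ⟨(x : P), h⟩ = s
    intro h1 h2
    have h3 : ∀ s : Q4, Equiv.Perm.sign s = 1 → s ^ 3 = 1 ∨ s ^ 2 = 1 := by decide +kernel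
    rcases h3 s h1 with h4 | h4
    · have h5 : orderOf s = 1 := Nat.Coprime.eq_one_of_dvd
        (Nat.Coprime.pow_right n (by norm_num : Nat.Coprime (3 : ℕ) 2) |>.coprime_dvd_left
          (orderOf_dvd_of_pow_eq_one h4)) (orderOf_dvd_of_pow_eq_one h2)
      rw [orderOf_eq_one_iff.1 h5, one_pow]
    · exact h4
  · intro s hs
    have h := (mem_V4.1 hs).2
    calc s ^ 4 = (s ^ 2) ^ 2 := by rw [← pow_mul]
      _ = 1 := by rw [h, one_pow]
  · exact mem_R _ (by decide) (by decide)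
  · intro k hk
    obtain ⟨h, h1⟩ := mem_Kc.1 hk
    rw [Equiv.Perm.mem_alternatingGroup] at h1
    have hd : d ∈ centralizer ({z} : Set P) := by
      rw [mem_centralizer_iff]
      rintro _ rfl
      decide
    rw [mem_Kc]
    refine ⟨mul_mem (mul_mem (mul_mem hd h) (inv_mem hd)) h, ?_⟩
    have e : (⟨_, mul_mem (mul_mem (mul_mem hd h) (inv_mem hd)) h⟩ : centralizer ({z} : Set P)) =
      ⟨d, hd⟩ * ⟨k, h⟩ * ⟨d, hd⟩⁻¹ * ⟨k, h⟩ := rfl
    have e' : phi ⟨d, hd⟩ = Equiv.swap 2 3 := by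
      ext i : 1
      rw [phi_apply]
      show b (d (a i)) = _
      clear hd e h1 h hk k
      revert i
      decide
    show phi (⟨_, mul_mem (mul_mem (mul_mem hd h) (inv_mem hd)) h⟩ : centralizer ({z} : Set P)) ∈ V4
    rw [e]
    simp only [map_mul, map_inv]
    rw [e']
    revert h1
    generalize phi ⟨(k : P), h⟩ = s
    revert s
    have : ∀ s : Q4, Equiv.Perm.sign s = 1 →
      (Equiv.Perm.sign (Equiv.swap 2 3 * s * (Equiv.swap 2 3)⁻¹ * s) = 1 ∧
        (Equiv.swap 2 3 * s * (Equiv.swap 2 3)⁻¹ * s) ^ 2 = 1) := by decide +kernel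
    exact this
  · intro k hk
    obtain ⟨h, h1⟩ := mem_Kc.1 hk
    rw [Equiv.Perm.mem_alternatingGroup] at h1
    have hd : d ∈ centralizer ({z} : Set P) := by
      rw [mem_centralizer_iff]
      rintro _ rfl
      decide
    rw [mem_Kc]
    refine ⟨mul_mem (mul_mem hd h) (inv_mem hd), ?_⟩
    have e : (⟨_, mul_mem (mul_mem hd h) (inv_mem hd)⟩ : centralizer ({z} : Set P)) =
      ⟨d, hd⟩ * ⟨k, h⟩ * ⟨d, hd⟩⁻¹ := rfl
    show phi (⟨_, mul_mem (mul_mem hd h) (inv_mem hd)⟩ : centralizer ({z} : Set P)) ∈ _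
    rw [e, Equiv.Perm.mem_alternatingGroup]
    simp only [map_mul, map_inv]
    rw [h1, mul_one, mul_inv_cancel]

/-- a subgroup of odd index inherits the property -/
theorem sn_of_injective {G : Type*} [Group G] [Finite G] {H : Type*} [Group H] (f : H →* G)
    (hf : Function.Injective f) (hodd : ¬ 2 ∣ Nat.card G / Nat.card H) (h : SN G) : SN H := by
  have hp : Fact (Nat.Prime 2) := ⟨Nat.prime_two⟩
  have : Finite H := Finite.of_injective f hf
  intro T x hx
  have hT : IsPGroup 2 ((T : Subgroup H).map f) := T.isPGroup'.map f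
  obtain ⟨S, hS⟩ := hT.exists_le_sylow
  have hdvd : Nat.card H ∣ Nat.card G := Subgroup.card_dvd_of_injective f hf
  have hcard : Nat.card (S : Subgroup G) = Nat.card ((T : Subgroup H).map f) := by
    rw [S.card_eq_multiplicity, Nat.card_congr ((T : Subgroup H).equivMapOfInjective f hf).toEquiv.symm,
      T.card_eq_multiplicity]
    obtain ⟨m, hm⟩ := hdvd
    have hH : Nat.card H ≠ 0 := Nat.card_pos.ne'
    rw [hm, Nat.mul_div_cancel_left _ (Nat.card_pos)] at hodd
    rw [hm, Nat.factorization_mul hH (by rintro rfl; exact hodd (dvd_zero 2)), Finsupp.add_apply,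
      Nat.factorization_eq_zero_of_not_dvd hodd, add_zero]
  have hST : (T : Subgroup H).map f = (S : Subgroup G) := Subgroup.eq_of_le_of_card_ge hS hcard.le
  have h1 : f x ∈ (S : Subgroup G) := by
    apply h S
    rw [← hST, mem_normalizer_iff]
    intro y
    constructor
    · rintro ⟨w, hw, rfl⟩
      exact ⟨x * w * x⁻¹, (mem_normalizer_iff.1 hx w).1 hw, by simp⟩
    · rintro ⟨w, hw, hw'⟩
      refine ⟨x⁻¹ * w * x, ?_, ?_⟩
      · have h2 := (mem_normalizer_iff.1 (inv_mem hx) w).1 hw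
        rwa [inv_inv] at h2
      · rw [map_mul, map_mul, hw', map_inv]
        group
  rw [← hST] at h1
  obtain ⟨w, hw, hw'⟩ := h1
  rw [← hf hw']
  exact hw

/-- `A_8` in `A_9` -/
theorem sn_eight : SN (alternatingGroup (Fin 8)) := by
  let f0 : Equiv.Perm (Fin 8) →* Equiv.Perm (Fin 9) :=
    Equiv.Perm.extendDomainHom (Equiv.ofInjective (Fin.castSucc : Fin 8 → Fin 9) (Fin.castSucc_injective 8))
  have hf0 : Function.Injective f0 := Equiv.Perm.extendDomainHom_injective _
  have hs : ∀ x, Equiv.Perm.sign (f0 x) = Equiv.Perm.sign x := fun x => Equiv.Perm.sign_extendDomain _ _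
  let f : alternatingGroup (Fin 8) →* alternatingGroup (Fin 9) :=
    (f0.comp (alternatingGroup (Fin 8)).subtype).codRestrict _ (fun x => by
      rw [Equiv.Perm.mem_alternatingGroup]
      show Equiv.Perm.sign (f0 x) = 1
      rw [hs]
      exact Equiv.Perm.mem_alternatingGroup.1 x.2)
  have hf : Function.Injective f := by
    intro x y h
    have h1 := congrArg Subtype.val h
    exact Subtype.ext (hf0 h1)
  refine sn_of_injective f hf ?_ sn_nine
  rw [nat_card_alternatingGroup, nat_card_alternatingGroup, Nat.card_fin, Nat.card_fin]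
  decide

theorem NT_a8 {G : Type*} [Group G] (e : G ≃* alternatingGroup (Fin 8)) : NT G :=
  NT.of_self (sn_eight.congr e.symm)

theorem NT_a9 {G : Type*} [Group G] (e : G ≃* alternatingGroup (Fin 9)) : NT G :=
  NT.of_self (sn_nine.congr e.symm)

end Cfsg.Agent.QTNorm.AltNine

end

-- merged: Cfsg.Agent.QTNorm.PslTwo
section

/-!
# `PSL₂(q)`, `q` a Fermat or Mersenne prime or 9, and `A₆`
-/

set_option autoImplicit false

namespace Cfsg.Agent.QTNorm.PslTwo

open Subgroup Cfsg Cfsg.Agent.QTNorm.SelfNorm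

/-- If `C(z)` is a 2-group and `z` is the only involution centralizing `C(z)`, the Sylow 2-subgroups are
self-normalizing. -/
theorem sn_of_two {G : Type*} [Group G] [Finite G] {z : G} (hz2 : orderOf z = 2)
    (hC : IsPGroup 2 (centralizer ({z} : Set G)))
    (hu : ∀ w : G, orderOf w = 2 → (∀ s : G, s * z = z * s → s * w = w * s) → w = z) : SN G := by
  have hf : Fact (Nat.Prime 2) := ⟨Nat.prime_two⟩
  obtain ⟨T, hT⟩ := hC.exists_le_sylow
  have hT' : ∀ s : G, s * z = z * s → s ∈ (T : Subgroup G) := fun s hs =>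
    hT (mem_centralizer_singleton_iff.2 hs)
  refine sn_of_odd T fun x hx hodd => ?_
  obtain ⟨w, hwT, hw2, hwc⟩ := exists_central T (hz2 ▸ orderOf_dvd_natCard z)
  have hwz : w = z := hu w hw2 fun s hs => hwc s (hT' s hs)
  subst hwz
  have hxT : ∀ t, t ∈ (T : Subgroup G) ↔ x * t * x⁻¹ ∈ (T : Subgroup G) := mem_normalizer_iff.1 hx
  have hxi : ∀ t ∈ (T : Subgroup G), x⁻¹ * t * x ∈ (T : Subgroup G) := by
    intro t ht
    rw [hxT]
    have e : x * (x⁻¹ * t * x) * x⁻¹ = t := by group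
    rw [e]; exact ht
  have h1 : x * w * x⁻¹ = w := by
    refine hu _ ?_ fun s hs => ?_
    · have e : x * w * x⁻¹ = MulAut.conj x w := rfl
      rw [e, MulEquiv.orderOf_eq, hw2]
    · have h2 := hwc _ (hxi s (hT' s hs))
      calc s * (x * w * x⁻¹) = x * ((x⁻¹ * s * x) * w) * x⁻¹ := by group
        _ = x * (w * (x⁻¹ * s * x)) * x⁻¹ := by rw [h2]
        _ = x * w * x⁻¹ * s := by group
  have hxw : x * w = w * x := by
    calc x * w = x * w * x⁻¹ * x := by group
      _ = w * x := by rw [h1]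
  obtain ⟨n, hn⟩ := hC ⟨x, mem_centralizer_singleton_iff.2 hxw⟩
  have h3 : x ^ 2 ^ n = 1 := congrArg Subtype.val hn
  exact orderOf_eq_one_iff.1 (Nat.Coprime.eq_one_of_dvd
    ((Nat.coprime_two_right.mpr hodd).pow_right _) (orderOf_dvd_of_pow_eq_one h3))

/-- Klein four Sylow subgroups and centralizers of involutions that are 2-groups. -/
theorem NT_of_klein {G : Type*} [Group G] [Finite G] (hk : ∀ P : Sylow 2 G, IsKleinFour (P : Subgroup G))
    (hC : ∀ z : G, orderOf z = 2 → IsPGroup 2 (centralizer ({z} : Set G))) : NT G := by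
  have hf : Fact (Nat.Prime 2) := ⟨Nat.prime_two⟩
  intro T M hM hTM
  obtain ⟨⟨R, hR, hR1, rfl⟩, hmax⟩ := hM
  have hT4 : Nat.card (T : Subgroup G) = 4 := (hk T).card_four
  -- `R ≤ T`
  have hRT : R ≤ (T : Subgroup G) := by
    have h1 : IsPGroup 2 (R ⊔ (T : Subgroup G) : Subgroup G) := by
      rw [sup_comm]
      exact T.isPGroup'.to_sup_of_normal_right' hR hTM
    have h2 := T.is_maximal' h1 le_sup_right
    rw [← h2]
    exact le_sup_left
  have hTloc : IsTwoLocal (normalizer ((T : Subgroup G) : Set G)) := by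
    refine ⟨(T : Subgroup G), T.isPGroup', ?_, rfl⟩
    intro h
    rw [h, Subgroup.card_bot] at hT4
    exact absurd hT4 (by norm_num)
  by_cases hRT' : R = (T : Subgroup G)
  · rw [hRT']
  · -- `R` has order two
    have hc : Nat.card R ∣ 4 := hT4 ▸ card_dvd_of_le hRT
    have hne : Nat.card R ≠ 4 := by
      intro h
      apply hRT'
      exact eq_of_le_of_card_ge hRT (by rw [h, hT4])
    have hne1 : Nat.card R ≠ 1 := fun h => hR1 (card_eq_one.1 h)
    have h2 : Nat.card R = 2 := by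
      have hle := Nat.le_of_dvd (by norm_num) hc
      interval_cases h : Nat.card R <;> simp_all
    obtain ⟨t, ht⟩ := exists_prime_orderOf_dvd_card' 2 (dvd_of_eq h2.symm)
    have hto : orderOf (t : G) = 2 := by rw [orderOf_coe]; exact ht
    have hRt : R = zpowers (t : G) := by
      symm
      refine eq_of_le_of_card_ge (zpowers_le.2 t.2) ?_
      rw [Nat.card_zpowers, hto, h2]
    have hN : IsPGroup 2 (normalizer (R : Set G)) := by
      refine (hC t hto).to_le ?_
      intro x hx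
      rw [mem_centralizer_singleton_iff]
      have h3 := (mem_normalizer_iff.1 hx t).1 t.2
      have h4 : x * t * x⁻¹ = t := by
        have h5 : ∀ y ∈ R, y ≠ 1 → y = t := by
          intro y hy hy1
          rw [hRt] at hy
          obtain ⟨i, rfl⟩ := mem_zpowers_iff.1 hy
          have h6 : (t : G) ^ (2 : ℤ) = 1 := by
            have := pow_orderOf_eq_one (t : G)
            rw [hto] at this
            exact_mod_cast this
          rcases Int.even_or_odd' i with ⟨j, rfl | rfl⟩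
          · exfalso; apply hy1
            rw [_root_.zpow_mul, h6, one_zpow]
          · rw [zpow_add, _root_.zpow_mul, h6, one_zpow, one_mul, zpow_one]
        apply h5 _ h3
        intro h6
        have h7 : (t : G) = 1 := by
          have : (t : G) = x⁻¹ * (x * t * x⁻¹) * x := by group
          rw [this, h6]; group
        rw [h7, orderOf_one] at hto
        exact absurd hto (by norm_num)
      calc x * t = x * t * x⁻¹ * x := by group
        _ = t * x := by rw [h4]
    have hTM' : (T : Subgroup G) = normalizer (R : Set G) := (T.is_maximal' hN hTM).symm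
    have h8 := hmax _ hTloc (by rw [← hTM']; exact le_normalizer)
    rw [h8]

section PSL

open Matrix Cfsg.Agent.ClassicalGeometry Cfsg.Agent.ClassicalGeometry.SLTwoFour
open Cfsg.Agent.ClassicalGeometry.PSL2Klein (involution_iff trace_eq_zero_of_sq mk_eq_mk)

variable {F : Type*} [Field F] [Fintype F]

local notation "SL2" => Matrix.SpecialLinearGroup (Fin 2)
local notation "PSL2" => Matrix.ProjectiveSpecialLinearGroup (Fin 2)

/-- a rotation outside the axes -/
theorem exists_point (hodd : Odd (Fintype.card F)) (h5 : 5 < Fintype.card F) :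
    ∃ p : {p : F × F // p.1 ^ 2 + p.2 ^ 2 = 1}, p.1.1 ≠ 0 ∧ p.1.2 ≠ 0 := by
  by_contra hcon
  push Not at hcon
  have hcard : 4 < Nat.card {p : F × F // p.1 ^ 2 + p.2 ^ 2 = 1} := by
    have h4 : Fintype.card F % 4 = 1 ∨ Fintype.card F % 4 = 3 := by
      obtain ⟨k, hk⟩ := hodd
      omega
    rcases h4 with h4 | h4
    · rw [card_circle_one h4]
      obtain ⟨k, hk⟩ := hodd
      omega
    · rw [card_circle_three h4]
      omega
  classical
  let f : {p : F × F // p.1 ^ 2 + p.2 ^ 2 = 1} → Fin 4 := fun p =>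
    if p.1.1 = 1 then 0 else if p.1.1 = -1 then 1 else if p.1.2 = 1 then 2 else 3
  have hinj : Function.Injective f := by
    intro p r h
    have hp := p.2
    have hr := r.2
    have key : ∀ s : {p : F × F // p.1 ^ 2 + p.2 ^ 2 = 1},
        (s.1.1 = 0 ∧ (s.1.2 = 1 ∨ s.1.2 = -1)) ∨ (s.1.2 = 0 ∧ (s.1.1 = 1 ∨ s.1.1 = -1)) := by
      intro s
      have hs := s.2
      by_cases h1 : s.1.1 = 0
      · left
        refine ⟨h1, ?_⟩
        rw [h1] at hs
        have h2 : (s.1.2 - 1) * (s.1.2 + 1) = 0 := by linear_combination hs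
        rcases mul_eq_zero.1 h2 with h3 | h3
        · left; linear_combination h3
        · right; linear_combination h3
      · right
        have h0 := hcon s h1
        refine ⟨h0, ?_⟩
        rw [h0] at hs
        have h2 : (s.1.1 - 1) * (s.1.1 + 1) = 0 := by linear_combination hs
        rcases mul_eq_zero.1 h2 with h3 | h3
        · left; linear_combination h3
        · right; linear_combination h3
    have h2 : (2 : F) ≠ 0 := two_ne_zero_of_odd hodd
    have h11 : (1 : F) ≠ -1 := fun h => h2 (by linear_combination h)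
    have h01 : (0 : F) ≠ 1 := zero_ne_one
    have h0m : (0 : F) ≠ -1 := fun h => one_ne_zero (α := F) (by linear_combination h)
    rcases key p with ⟨a, b | b⟩ | ⟨a, b | b⟩ <;> rcases key r with ⟨c, d | d⟩ | ⟨c, d | d⟩ <;>
      simp only [f, a, b, c, d, h11, h01, h0m, h11.symm, if_true, if_false] at h <;>
      first
        | (exact absurd h (by decide))
        | (exact Subtype.ext (Prod.ext (a.trans c.symm) (b.trans d.symm)))
        | (exact Subtype.ext (Prod.ext (b.trans d.symm) (a.trans c.symm)))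
  have h5 := Nat.card_le_card_of_injective f hinj
  rw [Nat.card_fin] at h5
  omega

/-- `w` is the only involution centralizing its centralizer -/
theorem unique_w (hodd : Odd (Fintype.card F)) (h5 : 5 < Fintype.card F)
    {a : PSL2 F} (ha : orderOf a = 2)
    (hc : ∀ s : PSL2 F, s * PSL2Klein.mk (w : SL2 F) = PSL2Klein.mk w * s → s * a = a * s) : a = PSL2Klein.mk w := by
  have h2 : (2 : F) ≠ 0 := two_ne_zero_of_odd hodd
  obtain ⟨p, hp1, hp2⟩ := exists_point hodd h5
  obtain ⟨V, rfl⟩ : ∃ V : SL2 F, PSL2Klein.mk V = a := QuotientGroup.mk_surjective a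
  have hww := hc (PSL2Klein.mk w) rfl
  have hr := hc (PSL2Klein.mk (rot p)) (by
    change PSL2Klein.mk (rot p * w) = PSL2Klein.mk (w * rot p)
    rw [rot_comm])
  have hr' : PSL2Klein.mk (rot p * V) = PSL2Klein.mk (V * rot p) := hr
  have hww' : PSL2Klein.mk (w * V) = PSL2Klein.mk (V * w) := hww
  have hV : (V : SL2 F).1 * V.1 = -1 := by
    apply (involution_iff h2).1
    refine ⟨fun h => ?_, ?_⟩
    · rw [h, orderOf_one] at ha; exact absurd ha (by norm_num)
    · have := pow_orderOf_eq_one (PSL2Klein.mk V)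
      rwa [ha, pow_two] at this
  have htr : V 0 0 + V 1 1 = 0 := by
    have := trace_eq_zero_of_sq V hV
    rwa [Matrix.trace_fin_two] at this
  have hd := det2 V
  rw [mk_eq_mk] at hww' hr'
  have hrp := p.2
  -- entries
  have e := fun i j => congrArg (fun y : SL2 F => y i j) (rfl : V = V)
  rcases hww' with h | h
  · -- `V` commutes with `w`
    have e00 := congrArg (fun y : SL2 F => y 0 0) h
    simp only [mul00, w00, w01, w10] at e00
    have h10 : V 1 0 = - V 0 1 := by linear_combination e00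
    have e01 := congrArg (fun y : SL2 F => y 0 1) h
    simp only [mul01, w00, w01, w11] at e01
    have h00 : V 0 0 = 0 := by
      have h3 : (2 : F) * V 0 0 = 0 := by linear_combination htr - e01
      exact (mul_eq_zero.1 h3).resolve_left h2
    have h11 : V 1 1 = 0 := by linear_combination htr - h00
    have h4 : (V 0 1 - 1) * (V 0 1 + 1) = 0 := by
      rw [h00, h11, h10] at hd
      linear_combination hd
    rcases mul_eq_zero.1 h4 with h5 | h5
    · rw [mk_eq_mk]; left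
      refine ext2 ?_ ?_ ?_ ?_
      · rw [h00, w00]
      · rw [w01]; linear_combination h5
      · rw [w10, h10]; linear_combination -h5
      · rw [h11, w11]
    · rw [mk_eq_mk]; right
      refine ext2 ?_ ?_ ?_ ?_
      · rw [neg_ij, h00, w00, neg_zero]
      · rw [neg_ij, w01]; linear_combination h5
      · rw [neg_ij, w10, h10]; linear_combination -h5
      · rw [neg_ij, h11, w11, neg_zero]
  · exfalso
    have e00 := congrArg (fun y : SL2 F => y 0 0) h
    simp only [neg_ij, mul00, w00, w01, w10] at e00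
    have h10 : V 1 0 = V 0 1 := by linear_combination e00
    have h11 : V 1 1 = - V 0 0 := by linear_combination htr
    rcases hr' with h' | h'
    · have f00 := congrArg (fun y : SL2 F => y 0 0) h'
      have f01 := congrArg (fun y : SL2 F => y 0 1) h'
      simp only [mul00, mul01, rot00, rot01, rot10, rot11] at f00 f01
      rw [h10] at f00
      rw [h11] at f01
      have g0 : (2 * p.1.2) * V 0 1 = 0 := by linear_combination f00
      have g1 : (2 * p.1.2) * V 0 0 = 0 := by linear_combination -f01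
      have hne : (2 * p.1.2 : F) ≠ 0 := mul_ne_zero h2 hp2
      have g2 := (mul_eq_zero.1 g0).resolve_left hne
      have g3 := (mul_eq_zero.1 g1).resolve_left hne
      rw [h10, g2, g3] at hd
      exact zero_ne_one (α := F) (by linear_combination hd)
    · have f00 := congrArg (fun y : SL2 F => y 0 0) h'
      have f01 := congrArg (fun y : SL2 F => y 0 1) h'
      simp only [neg_ij, mul00, mul01, rot00, rot01, rot10, rot11] at f00 f01
      rw [h10] at f00
      rw [h11] at f01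
      have g0 : (2 * p.1.1) * V 0 0 = 0 := by linear_combination f00
      have g1 : (2 * p.1.1) * V 0 1 = 0 := by linear_combination f01
      have hne : (2 * p.1.1 : F) ≠ 0 := mul_ne_zero h2 hp1
      have g2 := (mul_eq_zero.1 g0).resolve_left hne
      have g3 := (mul_eq_zero.1 g1).resolve_left hne
      rw [h10, g2, g3] at hd
      exact zero_ne_one (α := F) (by linear_combination hd)

theorem orderOf_mk_w (hodd : Odd (Fintype.card F)) : orderOf (PSL2Klein.mk (w : SL2 F)) = 2 := by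
  have h2 : (2 : F) ≠ 0 := two_ne_zero_of_odd hodd
  have h3 : (w : SL2 F).1 * (w : SL2 F).1 = -1 := by
    have := congrArg Subtype.val (w_mul_self (F := F))
    simpa using this
  have h4 := (involution_iff h2).2 h3
  exact Cfsg.Agent.TwoFusion.PSLTwoGood.orderOf_two h4.1 h4.2

/-- `PSL₂(q)`, `q > 5`, `q ± 1` a power of 2. -/
theorem sn_odd (hodd : Odd (Fintype.card F)) (h5 : 5 < Fintype.card F)
    (hF : (∃ k, Fintype.card F % 4 = 3 ∧ Fintype.card F + 1 = 2 ^ k) ∨
      (∃ k, Fintype.card F % 4 = 1 ∧ Fintype.card F = 2 ^ k + 1)) :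
    SN (ProjectiveSpecialLinearGroup (Fin 2) F) :=
  sn_of_two (orderOf_mk_w hodd)
    (Cfsg.Agent.OddHalf.Small.L2.psl2_cit_odd hodd hF (orderOf_mk_w hodd))
    fun _ ha hc => unique_w hodd h5 ha hc

/-- **`PSL₂(p)`, `p` a prime next to a power of 2.** -/
theorem nt_psl2 (hF : IsTwoPowerNeighbourPrime (Fintype.card F)) :
    NT (ProjectiveSpecialLinearGroup (Fin 2) F) := by
  obtain ⟨hp, hF⟩ := hF
  have hpow : ∀ k : ℕ, 2 ≤ k → 4 ∣ 2 ^ k := fun k hk => by
    obtain ⟨m, rfl⟩ := Nat.exists_eq_add_of_le hk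
    exact ⟨2 ^ m, by rw [pow_add]; norm_num⟩
  have hodd : Odd (Fintype.card F) := by
    rw [← Nat.not_even_iff_odd]
    intro he
    have h2 : Fintype.card F = 2 := (Nat.Prime.even_iff hp).1 he
    rcases hF with ⟨k, hk, h⟩ | ⟨k, h⟩
    · rw [h2] at h
      have : 2 ≤ 2 ^ k := by
        calc 2 = 2 ^ 1 := by norm_num
          _ ≤ 2 ^ k := Nat.pow_le_pow_right (by norm_num) hk
      omega
    · rw [h2] at h
      have h3 : 3 ∣ 2 ^ k := by rw [← h]
      have h4 := Nat.Prime.dvd_of_dvd_pow Nat.prime_three h3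
      norm_num at h4
  have h4 : (∃ k, Fintype.card F % 4 = 3 ∧ Fintype.card F + 1 = 2 ^ k) ∨
      (∃ k, Fintype.card F % 4 = 1 ∧ Fintype.card F = 2 ^ k + 1) := by
    rcases hF with ⟨k, hk, h⟩ | ⟨k, h⟩
    · rcases Nat.lt_or_ge k 2 with hk2 | hk2
      · have hk1 : k = 1 := by omega
        subst hk1
        left
        exact ⟨2, by omega, by omega⟩
      · right
        have := hpow k hk2
        exact ⟨k, by omega, h⟩
    · left
      have hk2 : 2 ≤ k := by
        by_contra hcon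
        have : k = 0 ∨ k = 1 := by omega
        rcases this with rfl | rfl
        · have := hp.two_le; omega
        · have := hp.two_le; omega
      have := hpow k hk2
      exact ⟨k, by omega, h⟩
  rcases Nat.lt_or_ge 5 (Fintype.card F) with h5 | h5
  · exact NT.of_self (sn_odd hodd h5 h4)
  · have h35 : Fintype.card F = 3 ∨ Fintype.card F = 5 := by
      have := hp.two_le
      obtain ⟨m, hm⟩ := hodd
      omega
    refine NT_of_klein (fun P => Cfsg.Agent.S0276.result rfl (by omega) P) fun z hz =>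
      Cfsg.Agent.OddHalf.Small.L2.psl2_cit_odd hodd h4 hz

/-- the row `L₂(p)` -/
theorem NT_l2 {G : Type*} [Group G] (hF : IsTwoPowerNeighbourPrime (Fintype.card F))
    (e : G ≃* ProjectiveSpecialLinearGroup (Fin 2) F) : NT G :=
  (nt_psl2 hF).congr e.symm

/-- `PSL₂(9)` -/
theorem sn_nine (hF : Fintype.card F = 9) : SN (ProjectiveSpecialLinearGroup (Fin 2) F) :=
  sn_odd (by rw [hF]; decide) (by omega) (Or.inr ⟨3, by omega, by omega⟩)

end PSL

/-- the row `A₆` -/
theorem NT_a6 {G : Type*} [Group G] (e : G ≃* alternatingGroup (Fin 6)) : NT G := by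
  have hp : Fact (Nat.Prime 3) := ⟨Nat.prime_three⟩
  let _ : Fintype (GaloisField 3 2) := Fintype.ofFinite _
  have hF : Fintype.card (GaloisField 3 2) = 9 := by
    rw [← Nat.card_eq_fintype_card, GaloisField.card 3 2 (by norm_num)]
    norm_num
  obtain ⟨f⟩ := Cfsg.Agent.S0254.result hF
  exact NT.of_self ((sn_nine hF).congr (f.trans e.symm))

end Cfsg.Agent.QTNorm.PslTwo

end

-- merged: Cfsg.Agent.QTNorm.SporM11
section

/-!
# The row `M11` of `NT` (S1825, helper26)
-/

set_option autoImplicit false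

namespace Cfsg.Agent.QTNorm

open Cfsg Subgroup Equiv
open Cfsg.Agent.Omega.Quasithin.M12 Cfsg.Agent.CoThreeStd.M12
open scoped Pointwise

theorem selfN_three {X : Type*} [Fintype X] [DecidableEq X] (hX : Fintype.card X = 3) : SelfN (Perm X) := by
  have : Fact (Nat.Prime 2) := ⟨Nat.prime_two⟩
  refine selfN_of_index (fun T => ?_) fun N hN => ?_
  · have h1 : Nat.card (Perm X) = 6 := by
      rw [Nat.card_eq_fintype_card, Fintype.card_perm, hX]; rfl
    have h2 := T.card_eq_multiplicity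
    rw [h1] at h2
    have h3 : Nat.factorization 6 2 = 1 := by
      rw [show (6 : ℕ) = 2 ^ 1 * 3 by norm_num, Nat.factorization_mul (by norm_num) (by norm_num),
        Finsupp.add_apply, Nat.Prime.factorization_pow Nat.prime_two, Finsupp.single_eq_same,
        Nat.factorization_eq_zero_of_not_dvd (by norm_num)]
    rw [h3] at h2
    have h4 := (T : Subgroup (Perm X)).card_mul_index
    rw [h2, h1] at h4
    have h5 : (T : Subgroup (Perm X)).index = 3 := by omega
    rw [h5]; exact Nat.prime_three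
  · rw [eq_top_iff, ← Equiv.Perm.closure_isSwap, closure_le]
    rintro σ ⟨a, b, -, rfl⟩
    exact hN _ (swap_mul_self a b)

/-- an involution centralising `z` and the pointwise stabiliser of `F` is `z` -/
theorem eq_z_of_W4 {y : G12} (hz : y * z = z * y) (hyy : y * y = 1) (hy1 : y ≠ 1)
    (h : ∀ w ∈ W4, el w * y = y * el w) : y = z := by
  have hmem : ∀ w ∈ W4, el w ∈ Q := fun w hw => mem_Q_of_fix fun i hi => el_W4_fix hw hi
  have hcomm : ∀ w ∈ W4, ∀ i : Fin 12, (y : P12) ((el w : P12) i) = (el w : P12) ((y : P12) i) := by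
    intro w hw i
    exact congrArg (fun u : G12 => (u : P12) i) (h _ hw).symm
  have h3 : (y : P12) 3 ∉ F := fun h3 => by
    have := (mem_F_iff hz 3).1 h3
    exact absurd this (by decide)
  obtain ⟨w, hw, hw3⟩ := trans_W4 _ h3
  have hk : el w * el w = 1 := by
    apply eq_one_of_fix
    · intro i hi
      show (el w : P12) ((el w : P12) i) = i
      rw [el_W4_fix hw hi, el_W4_fix hw hi]
    · show (el w : P12) ((el w : P12) 3) = 3
      rw [hw3, ← hcomm w hw, hw3]
      exact congrArg (fun u : G12 => (u : P12) 3) hyy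
  have hkz : el w = 1 ∨ el w = z := by
    by_cases h1 : el w = 1
    · exact Or.inl h1
    · exact Or.inr (eq_z (fun i hi => el_W4_fix hw hi) hk h1)
  have hkc : ∀ v ∈ W4, ∀ i : Fin 12, (el w : P12) ((el v : P12) i) = (el v : P12) ((el w : P12) i) := by
    intro v hv i
    have h1 : el w * el v = el v * el w := by
      rcases hkz with h2 | h2
      · rw [h2, one_mul, mul_one]
      · rw [h2]
        exact (mem_Q.1 (hmem v hv)).1.symm
    exact congrArg (fun u : G12 => (u : P12) i) h1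
  have hag : ∀ i : Fin 12, i ∉ F → (y : P12) i = (el w : P12) i := by
    intro i hi
    obtain ⟨v, hv, rfl⟩ := trans_W4 i hi
    rw [hcomm v hv, ← hw3, hkc v hv]
  have hyk : y = el w := by
    have h6 : (el w)⁻¹ * y = 1 := by
      apply Subtype.ext
      refine Out.fix_five ((el w)⁻¹ * y).2 (Finset.univ \ F) (by decide) fun i hi => ?_
      exact fix_inv_mul (hag i (Finset.mem_sdiff.1 hi).2)
    exact (inv_mul_eq_one.1 h6).symm
  rcases hkz with h1 | h1
  · exact absurd (hyk.trans h1) hy1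
  · exact hyk.trans h1

/-- the stabiliser of the point `0` -/
def G11 : Subgroup G12 := MulAction.stabilizer G12 (0 : Fin 12)

theorem mem_G11 (x : G12) : x ∈ G11 ↔ (x : P12) 0 = 0 := Iff.rfl

theorem zero_F : (0 : Fin 12) ∈ F := by decide

theorem z_mem_G11 : z ∈ G11 := (fix_iff 0).2 zero_F

/-- the involution -/
def z11 : G11 := ⟨z, z_mem_G11⟩

theorem index_G11 : G11.index = 12 := by
  have h1 : MulAction.orbit G12 (0 : Fin 12) = Set.univ := by
    ext i
    simp only [Set.mem_univ, iff_true]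
    obtain ⟨w, -, hw⟩ := trans0 i
    exact ⟨el w, Fin.ext (by rw [← hw]; exact (el_apply w 0).symm)⟩
  rw [G11, MulAction.index_stabilizer, h1, Set.ncard_univ, Nat.card_eq_fintype_card, Fintype.card_fin]

theorem relIndex_C : G11.relIndex (centralizer ({z} : Set G12)) = 4 := by
  have h1 : G11.subgroupOf (centralizer ({z} : Set G12)) =
      MulAction.stabilizer (centralizer ({z} : Set G12)) (0 : Fin 12) := by
    ext x
    rw [mem_subgroupOf]
    exact Iff.rfl
  have h2 : MulAction.orbit (centralizer ({z} : Set G12)) (0 : Fin 12) = ((F : Finset (Fin 12)) : Set (Fin 12)) := by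
    ext i
    rw [Finset.mem_coe]
    constructor
    · rintro ⟨x, rfl⟩
      exact mem_F ((mem_centralizer_iff' _).1 x.2) zero_F
    · intro hi
      obtain ⟨x, hx⟩ := psi_surj (swap ⟨0, zero_F⟩ ⟨i, hi⟩)
      refine ⟨x, ?_⟩
      have h3 := congrArg (fun τ : Perm X => ((τ ⟨0, zero_F⟩ : X) : Fin 12)) hx
      simp only [swap_apply_left] at h3
      rw [psi_apply] at h3
      exact h3
  rw [relIndex, h1, MulAction.index_stabilizer, h2, Set.ncard_coe_finset]
  decide

theorem centralizer_z11 : centralizer ({z11} : Set G11) = (centralizer ({z} : Set G12)).subgroupOf G11 := by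
  ext x
  rw [mem_subgroupOf, mem_centralizer_iff', mem_centralizer_singleton_iff]
  exact ⟨fun h => congrArg Subtype.val h, fun h => Subtype.ext h⟩

theorem index_z11 : (centralizer ({z11} : Set G11)).index = 165 := by
  have h1 := relIndex_mul_index (inf_le_right : G11 ⊓ centralizer ({z} : Set G12) ≤ _)
  have h2 := relIndex_mul_index (inf_le_left : G11 ⊓ centralizer ({z} : Set G12) ≤ _)
  rw [inf_relIndex_left, index_G11] at h2
  rw [inf_relIndex_right, relIndex_C, index_eq, ← h2] at h1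
  rw [centralizer_z11]
  rw [relIndex] at h1
  omega

/-- the three points -/
def F3 : Finset (Fin 12) := {6, 1, 2}

/-- the three points as a type -/
abbrev Y : Type := {i : Fin 12 // i ∈ F3}

theorem mem_F3_iff {x : G12} (h : x * z = z * x) (h0 : x ∈ G11) (i : Fin 12) : (x : P12) i ∈ F3 ↔ i ∈ F3 := by
  have h1 : ∀ j : Fin 12, j ∈ F3 ↔ (j ∈ F ∧ j ≠ 0) := by decide
  rw [h1, h1, mem_F_iff h]
  constructor
  · rintro ⟨h2, h3⟩
    exact ⟨h2, fun h4 => h3 (by rw [h4]; exact h0)⟩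
  · rintro ⟨h2, h3⟩
    exact ⟨h2, fun h4 => h3 ((x : P12).injective (h4.trans ((mem_G11 x).1 h0).symm))⟩

/-- the action on the three points -/
def psi3 : centralizer ({z11} : Set G11) →* Perm Y where
  toFun x := ((x : G11) : P12).subtypePerm fun i =>
    mem_F3_iff (congrArg Subtype.val (mem_centralizer_singleton_iff.1 x.2)) (x : G11).2 i
  map_one' := by
    ext i
    rfl
  map_mul' x y := by
    ext i
    rfl

theorem psi3_apply (x : centralizer ({z11} : Set G11)) (i : Y) :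
    ((psi3 x i : Y) : Fin 12) = ((x : G11) : P12) i := rfl

theorem psi3_surj : Function.Surjective psi3 := by
  intro σ
  have h6 : (6 : Fin 12) ∈ F3 := by decide
  have h1 : (1 : Fin 12) ∈ F3 := by decide
  have h2 : (2 : Fin 12) ∈ F3 := by decide
  have hne : ∀ (i j : Fin 12) (hi : i ∈ F3) (hj : j ∈ F3), i ≠ j →
      ((σ ⟨i, hi⟩ : Y) : Fin 12) ≠ ((σ ⟨j, hj⟩ : Y) : Fin 12) := by
    intro i j hi hj hij he
    exact hij (congrArg Subtype.val (σ.injective (Subtype.ext he)))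
  have hn0 : ∀ y : Y, (0 : Fin 12) ≠ y := by
    rintro ⟨y, hy⟩ h
    have : (0 : Fin 12) ∉ F3 := by decide
    exact this (by rw [h]; exact hy)
  obtain ⟨x, x0, x6, x1, x2⟩ := trans_four 0 (σ ⟨6, h6⟩ : Y) (σ ⟨1, h1⟩ : Y) (σ ⟨2, h2⟩ : Y)
    (hn0 _) (hn0 _) (hn0 _) (hne _ _ _ _ (by decide)) (hne _ _ _ _ (by decide))
    (hne _ _ _ _ (by decide))
  have hx : ∀ i (hi : i ∈ F3), (x : P12) i = (σ ⟨i, hi⟩ : Y) := by
    intro i hi
    have h : i = 6 ∨ i = 1 ∨ i = 2 := by
      simpa [F3] using hi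
    rcases h with rfl | rfl | rfl
    · exact x6
    · exact x1
    · exact x2
  have hF : ∀ i : Fin 12, i ∈ F ↔ (i = 0 ∨ i ∈ F3) := by decide
  have hz : x * z = z * x := comm_z fun i hi => by
    rcases (hF i).1 hi with rfl | h
    · rw [x0]; exact zero_F
    · rw [hx i h]; exact (hF _).2 (Or.inr (σ ⟨i, h⟩).2)
  have hx0 : x ∈ G11 := x0
  refine ⟨⟨⟨x, hx0⟩, mem_centralizer_singleton_iff.2 (Subtype.ext hz)⟩, Equiv.ext fun i => Subtype.ext ?_⟩
  rw [psi3_apply]
  exact hx i i.2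

theorem fix_of_psi3 {c : centralizer ({z11} : Set G11)} (hc : psi3 c = 1) :
    ∀ i ∈ F, (((c : G11) : G12) : P12) i = i := by
  intro i hi
  have hF : ∀ i : Fin 12, i ∈ F ↔ (i = 0 ∨ i ∈ F3) := by decide
  rcases (hF i).1 hi with rfl | h
  · exact (c : G11).2
  · exact congrArg (fun τ : Perm Y => ((τ ⟨i, h⟩ : Y) : Fin 12)) hc

theorem selfN_g11 : SelfN G11 := by
  have hfact : Fact (Nat.Prime 2) := ⟨Nat.prime_two⟩
  obtain ⟨S, hS⟩ := Omega.Quasithin.EvenOf.exists_sylow (z := z11) (by rw [index_z11]; decide)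
  set Q8 : Subgroup G11 := psi3.ker.map (centralizer ({z11} : Set G11)).subtype with hQ8
  have hQfix : ∀ x ∈ Q8, ∀ i ∈ F, ((x : G12) : P12) i = i := by
    rintro _ ⟨c, hc, rfl⟩
    exact fix_of_psi3 hc
  have hQmem : ∀ x : G12, (hx : ∀ i ∈ F, (x : P12) i = i) → (⟨x, hx 0 zero_F⟩ : G11) ∈ Q8 := by
    intro x hx
    have hz : x * z = z * x := comm_z fun i hi => by rw [hx i hi]; exact hi
    refine ⟨⟨⟨x, hx 0 zero_F⟩, mem_centralizer_singleton_iff.2 (Subtype.ext hz)⟩, ?_, rfl⟩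
    show psi3 _ = 1
    refine Equiv.ext fun i => Subtype.ext ?_
    rw [psi3_apply]
    have hF : ∀ i : Fin 12, i ∈ F3 → i ∈ F := by decide
    exact hx i (hF i i.2)
  have hp : IsPGroup 2 Q8 := by
    intro ⟨x, hx⟩
    exact ⟨2, Subtype.ext (Subtype.ext (pow_four (hQfix x hx)))⟩
  have hQS : Q8 ≤ (S : Subgroup G11) := by
    refine Omega.Quasithin.EvenOf.le_sylow_of_normalizes S hp ?_
    rintro s hs _ ⟨c, hc, rfl⟩
    refine ⟨⟨s, mem_centralizer_singleton_iff.2 (hS s hs)⟩ * c *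
      ⟨s, mem_centralizer_singleton_iff.2 (hS s hs)⟩⁻¹, ?_, rfl⟩
    show psi3 _ = 1
    rw [map_mul, map_mul, show psi3 c = 1 from hc, map_inv, mul_one, mul_inv_cancel]
  have hzS : z11 ∈ (S : Subgroup G11) := hQS (hQmem z fun i hi => (fix_iff i).2 hi)
  have hz1 : z11 ≠ 1 := fun h => z_ne (congrArg Subtype.val h)
  refine SelfN.of_one S (self_of_hom S (centralizer ({z11} : Set G11)) (fun x hx => ?_) psi3 psi3_surj
    (fun c hc => ⟨2, ?_⟩) (selfN_three (by decide)))
  · rw [mem_centralizer_singleton_iff]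
    refine norm_comm hzS (Subtype.ext zz) hz1 hS (fun b hb hbb hb1 hbc => Subtype.ext ?_) hx
    refine eq_z_of_W4 (congrArg Subtype.val (hS b hb)) (congrArg Subtype.val hbb)
      (fun h => hb1 (Subtype.ext h)) fun w hw => ?_
    exact congrArg Subtype.val (hbc _ (hQS (hQmem (el w) fun i hi => el_W4_fix hw hi)))
  · exact Subtype.ext (Subtype.ext (pow_four (fix_of_psi3 hc)))

theorem dp_zero : dp 0 = (some 0 : GolayPt) := by decide +kernel

/-- `M11` in `G12` -/
noncomputable def f11 : Spor.M11 →* G12 :=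
  equiv.toMonoidHom.comp (Subgroup.inclusion (inf_le_left : Spor.M11 ≤ Spor.M12))

theorem f11_inj : Function.Injective f11 :=
  equiv.injective.comp (Subgroup.inclusion_injective _)

theorem coe_equiv (g : Spor.M12) : ((equiv g : G12) : P12) = rho g := rfl

theorem f11_range : f11.range = G11 := by
  ext x
  constructor
  · rintro ⟨g, rfl⟩
    show ((f11 g : G12) : P12) 0 = 0
    apply dp_injective
    show dp (rho (Subgroup.inclusion inf_le_left g) 0) = dp 0
    rw [dp_rho, dp_zero]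
    exact g.2.2
  · intro hx
    obtain ⟨g, rfl⟩ := equiv.surjective x
    have h1 : ((g : Spor.M12) : Perm GolayPt) (some 0) = some 0 := by
      have h2 : dp (rho g 0) = dp 0 := congrArg dp hx
      rw [dp_rho, dp_zero] at h2
      exact h2
    exact ⟨⟨(g : Perm GolayPt), g.2, h1⟩, rfl⟩

theorem selfN_m11 {G : Type*} [Group G] (h : Spor.IsoM11 G) : SelfN G := by
  obtain ⟨e⟩ := h
  have e2 : Spor.M11 ≃* G11 := (MonoidHom.ofInjective f11_inj).trans (MulEquiv.subgroupCongr f11_range)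
  have : Finite Spor.M11 := Finite.of_injective _ e2.injective
  exact selfN_g11.congr (e.trans e2).symm

/-- **The row `M11`.** -/
theorem nt_m11 {G : Type*} [Group G] (h : Spor.IsoM11 G) : NT G := (selfN_m11 h).nt

end Cfsg.Agent.QTNorm

end

-- merged: Cfsg.Agent.QTNorm.Table
section

/-!
# `NT G` for the groups on the list of the quasithin classification

`NT_of_list` : all rows but `J₂`, `J₃`, `J₄`, `HS`, `Ru`, which are hypotheses here.
-/

set_option autoImplicit false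

namespace Cfsg.Agent.QTNorm

open Cfsg

universe u

variable {G : Type u} [Group G]

/-- all rows but `J₂`, `J₃`, `J₄`, `HS`, `Ru` -/
theorem NT_of_list [Finite G] [IsSimpleGroup G] (hG : ¬ IsMulCommutative G) (hE : IsOfEvenCharacteristic G)
    (h : IsOnQTKEList G) (hJ2 : Spor.IsoJ2 G → NT G) (hJ3 : Spor.IsoJ3 G → NT G) (hJ4 : Spor.IsoJ4 G → NT G)
    (hHS : Spor.IsoHS G → NT G) (hRu : Spor.IsoRu G → NT G) : NT G := by
  rcases h with h | h | (h | ⟨⟨e⟩⟩ | ⟨⟨e⟩⟩ | ⟨⟨e⟩⟩) |
    (⟨F, _, _, hF, ⟨e⟩⟩ | ⟨F, _, _, hF, ⟨⟨e⟩⟩ | ⟨⟨e⟩⟩ | ⟨⟨e⟩⟩⟩ | ⟨F, _, _, hF, ⟨⟨e⟩⟩ | ⟨⟨e⟩⟩⟩) |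
    (h | h | h | h | h | h | h | h | h | h | h)
  · exact NT_of_lieRank hG h
  · exact NT_of_two hG h
  · exact NT_of_alt5 h
  · exact PslTwo.NT_a6 e
  · exact AltNine.NT_a8 e
  · exact AltNine.NT_a9 e
  · exact PslTwo.NT_l2 hF e
  · exact LThreeThree.NT_l33 hF e
  · exact LFourThree.NT_l43 hF e
  · exact GTwoThree.NT_g23 hF e
  · exact UThreeThree.NT_u33 hF e
  · exact UFourThree.NT_u43 hF e
  · exact nt_m11 h
  · exact nt_m12 h
  · exact nt_m22 hE h
  · exact nt_m23 hE h
  · exact nt_m24 h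
  · exact hJ2 h
  · exact hJ3 h
  · exact hJ4 h
  · exact hHS h
  · exact nt_he h
  · exact hRu h

end Cfsg.Agent.QTNorm

end

-- merged: Cfsg.Agent.QTNorm.Main
section

/-!
# `NT G` for every group on the list of the quasithin classification
-/

set_option autoImplicit false

namespace Cfsg.Agent.QTNorm

open Cfsg

universe u

/-- **`N_G(T)` lies in every maximal 2-local subgroup over `T`**, for the groups on the list. -/
theorem nt_of_list {G : Type u} [Group G] [Finite G] [IsSimpleGroup G] (hG : ¬ IsMulCommutative G)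
    (hE : IsOfEvenCharacteristic G) (h : IsOnQTKEList G) : NT G :=
  NT_of_list hG hE h nt_j2 nt_j3 JFour.nt_j4 HSRow.nt_hs RuRow.nt_ru

theorem main {G : Type u} [Group G] [Finite G] [IsSimpleGroup G] (hG : ¬ IsMulCommutative G)
    (hQ : IsQTKE G) (h : IsOnQTKEList G) (T : Sylow 2 G) (M : Subgroup G)
    (hM : M ∈ maxTwoLocalsContaining (T : Subgroup G)) :
    Subgroup.normalizer ((T : Subgroup G) : Set G) ≤ M :=
  nt_of_list hG hQ.2.2 h T M hM.1 hM.2

end Cfsg.Agent.QTNorm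

end
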