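import Cfsg.Agent.QTNorm.SporRigid
import Cfsg.Agent.QTNorm.SporNormal

/-!
# Sylow 2-subgroups of `M22` are self-normalising (S1825, helper26)

`selfN_M22` : from `Rigid` and the orbits of the Sylow 2-subgroup.
-/

set_option autoImplicit false

namespace Cfsg.Agent.QTNorm

open Cfsg Subgroup

open Cfsg.Agent.Golay.Orbit Cfsg.Agent.Schreier.SylMTwentyTwo

/-- points with the same stabiliser in `T` are in the same orbit -/
theorem stab_ok : ((List.range 23).all fun p => (List.range 23).all fun q =>
    (els.any fun l => !((l.getD p 24 == p) == (l.getD q 24 == q))) || (els.any fun l => l.getD p 24 == q)) = true := by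
  decide +kernel

theorem cent_T {x : Equiv.Perm GolayPt} (hn : x none = none) (hc : ∀ t ∈ T, x * t = t * x)
    (ho : Odd (orderOf x)) : x = 1 := by
  apply Equiv.ext
  intro a
  rw [Equiv.Perm.one_apply]
  by_cases ha : a = none
  · rw [ha, hn]
  have hidx : ∀ b : GolayPt, b ≠ none → idx b < 23 := by
    intro b hb
    have h1 := idx_lt b
    have h2 : idx b ≠ 23 := fun h => hb (idx_injective (h.trans rfl))
    omega
  have hxa : x a ≠ none := fun h => ha (x.injective (h.trans hn.symm))
  have h1 := stab_ok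
  rw [List.all_eq_true] at h1
  have h2 := h1 (idx a) (List.mem_range.2 (hidx a ha))
  rw [List.all_eq_true] at h2
  have h3 := h2 (idx (x a)) (List.mem_range.2 (hidx _ hxa))
  rw [Bool.or_eq_true] at h3
  have h4 : ∃ t ∈ T, t a = x a := by
    rcases h3 with h3 | h3
    · exfalso
      rw [List.any_eq_true] at h3
      obtain ⟨l, hl, h4⟩ := h3
      obtain ⟨t, ht, hr⟩ := exists_els hl
      have h5 : (l.getD (idx a) 24 == idx a) = (l.getD (idx (x a)) 24 == idx (x a)) := by
        rw [hr.eq, hr.eq]
        rw [Bool.eq_iff_iff, beq_iff_eq, beq_iff_eq]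
        have h6 : t (x a) = x (t a) := by
          have := congrArg (fun y : Equiv.Perm GolayPt => y a) (hc t ht)
          exact this.symm
        rw [h6]
        constructor
        · intro h; rw [idx_injective h]
        · intro h; rw [x.injective (idx_injective h)]
      rw [h5] at h4
      simp at h4
    · rw [List.any_eq_true] at h3
      obtain ⟨l, hl, h4⟩ := h3
      obtain ⟨t, ht, hr⟩ := exists_els hl
      rw [hr.eq, beq_iff_eq] at h4
      exact ⟨t, ht, idx_injective h4⟩
  obtain ⟨t, ht, hta⟩ := h4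
  -- `y = t⁻¹ x` fixes `a`
  have hfix : ∀ n : ℕ, (x ^ n) a = (t ^ n) a := by
    intro n
    induction n with
    | zero => rfl
    | succ n ih =>
      have h5 : x ^ n * t = t * x ^ n := by
        have : Commute x t := hc t ht
        exact this.pow_left n
      have h6 := congrArg (fun y : Equiv.Perm GolayPt => y a) h5
      have h7 : (x ^ n) (t a) = t ((x ^ n) a) := h6
      rw [pow_succ, Equiv.Perm.mul_apply, ← hta, h7, ih, pow_succ', Equiv.Perm.mul_apply]
  have hfact : Fact (Nat.Prime 2) := ⟨Nat.prime_two⟩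
  obtain ⟨k, hk⟩ := isPGroup_T ⟨t, ht⟩
  have h8 : t ^ 2 ^ k = 1 := congrArg Subtype.val hk
  have h9 : (x ^ 2 ^ k) a = a := by rw [hfix, h8]; rfl
  have h10 : Nat.Coprime (orderOf x) (2 ^ k) := Nat.Coprime.pow_right k (Nat.coprime_two_right.2 ho)
  obtain ⟨m, hm⟩ := exists_pow_eq_self_of_coprime (x := x) (n := 2 ^ k) h10.symm
  have h11 : ∀ j : ℕ, ((x ^ 2 ^ k) ^ j) a = a := by
    intro j
    induction j with
    | zero => rfl
    | succ j ih => rw [pow_succ, Equiv.Perm.mul_apply, h9, ih]
  rw [← hm]
  exact h11 m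

theorem selfN_M22 : SelfN Spor.M22 := by
  have hfact : Fact (Nat.Prime 2) := ⟨Nat.prime_two⟩
  have hc := Cfsg.Agent.SporadicA.MathieuRecog.card_M22
  have hcT : Nat.card (T.subgroupOf Spor.M22) = 128 := by
    rw [Nat.card_congr (subgroupOfEquivOfLe T_le).toEquiv, card_T]
  have hp : IsPGroup 2 (T.subgroupOf Spor.M22) := isPGroup_T.comap_of_injective _ (subtype_injective _)
  have hi : ¬ 2 ∣ (T.subgroupOf Spor.M22).index := by
    have h1 := card_mul_index (T.subgroupOf Spor.M22)
    rw [hcT, hc] at h1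
    omega
  refine selfN_of_odd (hp.toSylow hi) fun x hx ho => ?_
  have hx' : x ∈ normalizer ((T.subgroupOf Spor.M22 : Subgroup Spor.M22) : Set Spor.M22) := hx
  have hR := Omega.Kond.RowM22.rigid.congr (subgroupOfEquivOfLe T_le).symm
  have h1 := mem_centralizer_of_odd (T.subgroupOf Spor.M22) hR hx' ho
  apply Subtype.ext
  refine cent_T x.2.1.2 (fun t ht => ?_) (by rw [orderOf_coe]; exact ho)
  have h2 := mem_centralizer_iff.1 h1 ⟨t, T_le ht⟩ ht
  exact (congrArg Subtype.val h2).symm

end Cfsg.Agent.QTNorm
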